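import Groth.Prelude.Def_Curves
import Mathlib

/-!
# Absolutely integrally closed rings: localisations and strict henselianity
-/

set_option autoImplicit false
universe u

open Polynomial

namespace Groth.Agent.AIC6

variable {R : Type u} [CommRing R]

theorem isAIC_of_isLocalization (hR : Curves.IsAIC R) (M : Submonoid R) (S : Type u) [CommRing S]
    [Algebra R S] [IsLocalization M S] : Curves.IsAIC S := by
  intro q hq hdeg
  obtain ⟨b, hb⟩ := IsLocalization.exist_integer_multiples M (Finset.range q.natDegree) q.coeff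
  set t : S := algebraMap R S (b : R) with ht
  have hlift : q.scaleRoots t ∈ Polynomial.lifts (algebraMap R S) := by
    rw [lifts_iff_coeff_lifts]
    intro n
    rw [coeff_scaleRoots]
    rcases lt_trichotomy n q.natDegree with h | h | h
    · obtain ⟨r, hr⟩ := hb n (Finset.mem_range.2 h)
      refine ⟨r * (b : R) ^ (q.natDegree - n - 1), ?_⟩
      rw [map_mul, map_pow, hr, Algebra.smul_def, ← ht,
        show t ^ (q.natDegree - n) = t * t ^ (q.natDegree - n - 1) by
          rw [← pow_succ']; congr 1; omega]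
      ring
    · subst h
      exact ⟨1, by simp [hq.leadingCoeff]⟩
    · exact ⟨0, by simp [coeff_eq_zero_of_natDegree_lt h]⟩
  obtain ⟨p, hp, hpdeg, hpm⟩ := lifts_and_natDegree_eq_and_monic hlift ((monic_scaleRoots_iff t).2 hq)
  obtain ⟨r, hr⟩ := hR p hpm (by rw [hpdeg, natDegree_scaleRoots]; exact hdeg)
  obtain ⟨v, hv⟩ := (IsLocalization.map_units S b).exists_left_inv
  refine ⟨v * algebraMap R S r, ?_⟩
  have h : (q.scaleRoots t).eval (t * (v * algebraMap R S r)) = 0 := by
    rw [← mul_assoc, mul_comm t v, hv, one_mul, ← hp, eval_map_apply, hr, map_zero]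
  rw [scaleRoots_eval_mul] at h
  exact ((IsLocalization.map_units S b).pow _).mul_right_eq_zero.1 h

section Local

variable [IsLocalRing R] (hR : Curves.IsAIC R)

include hR in
theorem exists_root_of_simple (n : ℕ) : ∀ (f : R[X]) (a₀ : R), f.natDegree ≤ n → f.Monic →
    f.eval a₀ ∈ IsLocalRing.maximalIdeal R → IsUnit (f.derivative.eval a₀) →
      ∃ a : R, f.IsRoot a ∧ a - a₀ ∈ IsLocalRing.maximalIdeal R := by
  induction n with
  | zero =>
    intro f a₀ hn hf h0 _
    rw [hf.natDegree_eq_zero.mp (Nat.le_zero.mp hn)] at h0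
    exact absurd (by simpa using h0)
      ((Ideal.ne_top_iff_one _).mp (IsLocalRing.maximalIdeal.isMaximal R).ne_top)
  | succ n ih =>
    intro f a₀ hn hf h0 hu
    have hpos : 0 < f.natDegree := by
      rcases Nat.eq_zero_or_pos f.natDegree with h | h
      · rw [hf.natDegree_eq_zero.mp h] at hu; simp at hu
      · exact h
    obtain ⟨r, hr⟩ := hR f hf hpos
    obtain ⟨g, hfg⟩ : X - C r ∣ f := dvd_iff_isRoot.2 hr
    by_cases hra : r - a₀ ∈ IsLocalRing.maximalIdeal R
    · exact ⟨r, hr, hra⟩
    have hgm : g.Monic := (monic_X_sub_C r).of_mul_monic_left (hfg ▸ hf)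
    have hdeg : g.natDegree + 1 = f.natDegree := by
      rw [hfg, (monic_X_sub_C r).natDegree_mul hgm, natDegree_X_sub_C, add_comm]
    have hra' : a₀ - r ∉ IsLocalRing.maximalIdeal R := fun h => hra (by simpa using neg_mem h)
    have hg0 : g.eval a₀ ∈ IsLocalRing.maximalIdeal R := by
      rw [hfg, eval_mul, eval_sub, eval_X, eval_C] at h0
      exact ((IsLocalRing.maximalIdeal.isMaximal R).isPrime.mem_or_mem h0).resolve_left hra'
    have hgu : IsUnit (g.derivative.eval a₀) := by
      by_contra hnu
      rw [hfg, derivative_mul, derivative_sub, derivative_X, derivative_C, sub_zero, one_mul,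
        eval_add, eval_mul, eval_sub, eval_X, eval_C] at hu
      exact (IsLocalRing.mem_maximalIdeal _).mp
        (add_mem hg0 (Ideal.mul_mem_left _ _ ((IsLocalRing.mem_maximalIdeal _).mpr hnu))) hu
    obtain ⟨a, ha, hma⟩ := ih g a₀ (by omega) hgm hg0 hgu
    exact ⟨a, by rw [IsRoot.def, hfg, eval_mul, ha.eq_zero, mul_zero], hma⟩

include hR in
theorem henselianLocalRing : HenselianLocalRing R where
  is_henselian f hf a₀ h0 hu := exists_root_of_simple hR f.natDegree f a₀ le_rfl hf h0 hu

include hR in
theorem isSepClosed_residueField : IsSepClosed (IsLocalRing.ResidueField R) := by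
  refine IsSepClosed.of_exists_root _ fun p hp hirr _ => ?_
  obtain ⟨g, hg, hdeg, hgm⟩ := lifts_and_natDegree_eq_and_monic (f := IsLocalRing.residue R)
    ((mem_lifts p).mpr (map_surjective _ IsLocalRing.residue_surjective p)) hp
  obtain ⟨r, hr⟩ := hR g hgm (by rw [hdeg]; exact hirr.natDegree_pos)
  exact ⟨IsLocalRing.residue R r, by rw [← hg, eval_map_apply, hr, map_zero]⟩

end Local

end Groth.Agent.AIC6
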