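import Groth.Agent.Lib.AIC6.Local
import Groth.Agent.Lib.NormSep24.ConstIso

/-!
# Higher étale cohomology of constant sheaves over absolutely integrally closed rings
-/

set_option autoImplicit false
universe u

open CategoryTheory CategoryTheory.Limits AlgebraicGeometry Opposite CategoryTheory.Abelian

namespace Groth.Agent.AIC6

open Groth.Agent.NormSep24 Groth.Agent.EtSite

variable {R : Type u} [CommRing R]

variable (R) in
/-- `Spec R`. -/
noncomputable abbrev XS : Scheme.{u} := Spec (CommRingCat.of R)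

variable (R) in
/-- The final object. -/
noncomputable abbrev U₀ : (XS R).Etale := EtCoh.top (XS R)

/-- A standard open. -/
noncomputable abbrev D (r : R) : (XS R).Opens := PrimeSpectrum.basicOpen r

/-- An open as an object of the site. -/
noncomputable abbrev obj (O : (XS R).Opens) : (XS R).Etale := sub (U₀ R) O

/-- Inclusion. -/
noncomputable abbrev res {O O' : (XS R).Opens} (h : O ≤ O') : obj O ⟶ obj O' := subLE (U := U₀ R) h

theorem res_fac {O O' : (XS R).Opens} (h : O ≤ O') :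
    res h ≫ subHom (U₀ R) O' = subHom (U₀ R) O :=
  subLE_fac (U := U₀ R) h

theorem mono_obj (O : (XS R).Opens) : Mono (subHom (U₀ R) O : obj O ⟶ U₀ R) :=
  mono_subHom (U := U₀ R) O

theorem toSub_fac' {Z : (XS R).Etale} (h : Z ⟶ U₀ R) (W : (XS R).Opens)
    (hr : Set.range h.left ⊆ (W : Set (XS R))) :
    (toSub h W hr : Z ⟶ obj W) ≫ subHom (U₀ R) W = h :=
  toSub_fac (U := U₀ R) h W hr

theorem res_apply {O O' : (XS R).Opens} (h : O ≤ O') (x : (obj O).left) :
    ((res h).left x).1 = x.1 :=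
  congrArg (fun t => t.left x) (res_fac h)

theorem res_comp {O O' O'' : (XS R).Opens} (h : O ≤ O') (h' : O' ≤ O'') :
    res h ≫ res h' = res (h.trans h') := by
  haveI := mono_obj O''
  apply (cancel_mono (subHom (U₀ R) O'')).1
  rw [Category.assoc, res_fac, res_fac, res_fac]

theorem mono_res {O O' : (XS R).Opens} (h : O ≤ O') : Mono (res h) := by
  haveI := mono_obj O
  have : Mono (res h ≫ subHom (U₀ R) O') := by rw [res_fac]; infer_instance
  exact mono_of_mono (res h) (subHom (U₀ R) O')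

/-- A pair of maps into two opens with equal composites factors through the intersection. -/
theorem exists_factor {A B C : (XS R).Opens} (hA : A ≤ C) (hB : B ≤ C) {Z : (XS R).Etale}
    (a : Z ⟶ obj A) (b : Z ⟶ obj B) (h : a ≫ res hA = b ≫ res hB) :
    ∃ c : Z ⟶ obj (A ⊓ B), c ≫ res inf_le_left = a ∧ c ≫ res inf_le_right = b := by
  have h0 : a ≫ subHom (U₀ R) A = b ≫ subHom (U₀ R) B := by
    have := congrArg (· ≫ subHom (U₀ R) C) h
    rwa [Category.assoc, Category.assoc, res_fac, res_fac] at this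
  have hr : Set.range (a ≫ subHom (U₀ R) A).left ⊆ ((A ⊓ B : (XS R).Opens) : Set (XS R)) := fun x hx =>
    ⟨range_comp_subHom (U := U₀ R) A a hx, range_comp_subHom (U := U₀ R) B b (h0 ▸ hx)⟩
  refine ⟨toSub (a ≫ subHom (U₀ R) A) (A ⊓ B) hr, ?_, ?_⟩
  · haveI := mono_obj A
    apply (cancel_mono (subHom (U₀ R) A)).1
    refine (Category.assoc _ _ _).trans ?_
    rw [res_fac]
    exact toSub_fac' _ _ _
  · haveI := mono_obj B
    apply (cancel_mono (subHom (U₀ R) B)).1
    refine (Category.assoc _ _ _).trans ?_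
    rw [res_fac]
    exact (toSub_fac' _ _ _).trans h0

variable (F : EtCoh.Ab (XS R))

/-- Sections over an open. -/
abbrev secs (O : (XS R).Opens) : Type (u + 1) := F.obj.obj (op (obj O))

/-- Restriction. -/
noncomputable abbrev rmap {O O' : (XS R).Opens} (h : O ≤ O') : secs F O' →+ secs F O :=
  (F.obj.map (res h).op).hom

theorem rmap_rmap {O O' O'' : (XS R).Opens} (h : O ≤ O') (h' : O' ≤ O'') (s : secs F O'') :
    rmap F h (rmap F h' s) = rmap F (h.trans h') s := by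
  change F.obj.map (res h).op (F.obj.map (res h').op s) = F.obj.map (res (h.trans h')).op s
  rw [res_res, res_comp]

theorem glue_two {A B C : (XS R).Opens} (hA : A ≤ C) (hB : B ≤ C)
    (hC : ∀ x ∈ C, x ∈ A ∨ x ∈ B) (a : secs F A) (b : secs F B)
    (h : rmap F inf_le_left a = rmap F (inf_le_right : A ⊓ B ≤ B) b) :
    ∃ t : secs F C, rmap F hA t = a ∧ rmap F hB t = b := by
  let O : Bool → (XS R).Opens := fun i => bif i then A else B
  let f : ∀ i, obj (O i) ⟶ obj C := fun i => match i with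
    | true => res hA
    | false => res hB
  let s : ∀ i, F.obj.obj (op (obj (O i))) := fun i => match i with
    | true => a
    | false => b
  have hh : ∀ {Z : (XS R).Etale} (u : Z ⟶ obj A) (v : Z ⟶ obj B), u ≫ res hA = v ≫ res hB →
      F.obj.map u.op a = F.obj.map v.op b := by
    intro Z u v e
    obtain ⟨c, rfl, rfl⟩ := exists_factor hA hB u v e
    rw [← res_res, ← res_res]
    exact congrArg (F.obj.map c.op) h
  obtain ⟨t, ht, -⟩ := glue F (fun i => obj (O i)) f (fun x => by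
      rcases hC x.1 x.2 with h' | h'
      · exact ⟨true, ⟨x.1, h'⟩, Subtype.ext (res_apply hA ⟨x.1, h'⟩)⟩
      · exact ⟨false, ⟨x.1, h'⟩, Subtype.ext (res_apply hB ⟨x.1, h'⟩)⟩) s (fun i j Z u v e => by
      rcases i with _ | _ <;> rcases j with _ | _
      · haveI := mono_res hB
        rw [(cancel_mono (res hB)).1 e]
      · exact (hh v u e.symm).symm
      · exact hh u v e
      · haveI := mono_res hA
        rw [(cancel_mono (res hA)).1 e])
  exact ⟨t, ht true, ht false⟩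

/-- Sections on `D(fg(f+g))` are differences. -/
def Split : Prop :=
  ∀ f g : R, ∀ s : secs F (D f ⊓ D g ⊓ D (f + g)),
    ∃ (a : secs F (D f ⊓ D (f + g))) (b : secs F (D g ⊓ D (f + g))),
      s = rmap F (inf_le_inf_right _ inf_le_left) a - rmap F (inf_le_inf_right _ inf_le_right) b

variable {F}

theorem exists_local_open (hX : ZL (XS R)) {Y : (XS R).Etale} (f : Y ⟶ U₀ R) (y : Y.left) :
    ∃ (N : (XS R).Opens) (r : obj N ⟶ Y), f.left y ∈ N ∧ r ≫ f = subHom (U₀ R) N := by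
  obtain ⟨W, hyW, hW⟩ := hX Y y
  haveI := hW
  haveI : IsOpenImmersion ((W.ι ≫ f.left) ≫ (U₀ R).hom) := by
    rw [Category.assoc, MorphismProperty.Over.w f]; exact hW
  haveI : IsOpenImmersion (U₀ R).hom := inferInstanceAs (IsOpenImmersion (𝟙 (XS R)))
  haveI : IsOpenImmersion (W.ι ≫ f.left) := IsOpenImmersion.of_comp (W.ι ≫ f.left) (U₀ R).hom
  let N : (XS R).Opens := (W.ι ≫ f.left).opensRange
  have h0 : (W.ι ≫ f.left).isoOpensRange.inv ≫ W.ι ≫ f.left = N.ι :=
    Scheme.Hom.isoOpensRange_inv_comp _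
  refine ⟨N, MorphismProperty.Over.homMk ((W.ι ≫ f.left).isoOpensRange.inv ≫ W.ι)
    (((Category.assoc _ _ _).trans (congrArg ((W.ι ≫ f.left).isoOpensRange.inv ≫ ·)
      ((congrArg (W.ι ≫ ·) (MorphismProperty.Over.w f).symm).trans
        (Category.assoc _ _ _).symm))).trans
      ((Category.assoc _ _ _).symm.trans (congrArg (· ≫ (U₀ R).hom) h0))), ⟨⟨y, hyW⟩, rfl⟩, ?_⟩
  exact MorphismProperty.Over.Hom.ext ((Category.assoc _ _ _).trans h0)

theorem exists_basic {x : XS R} {N : (XS R).Opens} (hx : x ∈ N) : ∃ f : R, x ∈ D f ∧ D f ≤ N := by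
  obtain ⟨_, ⟨f, rfl⟩, hxf, hfN⟩ :=
    PrimeSpectrum.isTopologicalBasis_basic_opens.exists_subset_of_mem_open hx N.2
  exact ⟨f, hxf, hfN⟩

section ShortExact

variable {S : ShortComplex (EtCoh.Ab (XS R))} (hS : S.ShortExact)

theorem g_rmap {O O' : (XS R).Opens} (h : O ≤ O') (t : secs S.X₂ O') :
    S.g.hom.app _ (rmap S.X₂ h t) = rmap S.X₃ h (S.g.hom.app _ t) :=
  g_res (S := S) _ t

theorem f_rmap {O O' : (XS R).Opens} (h : O ≤ O') (t : secs S.X₁ O') :
    S.f.hom.app _ (rmap S.X₁ h t) = rmap S.X₂ h (S.f.hom.app _ t) :=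
  f_res (S := S) _ t

include hS in
theorem local_lift (hX : ZL (XS R)) {O : (XS R).Opens} (s : secs S.X₃ O) {x : XS R} (hx : x ∈ O) :
    ∃ f : R, x ∈ D f ∧ ∃ h : D f ≤ O, ∃ t, S.g.hom.app _ t = rmap S.X₃ h s := by
  haveI : Sheaf.IsLocallySurjective S.g := by
    rw [Sheaf.isLocallySurjective_iff_epi']; exact hS.epi_g
  obtain ⟨Y, φ, y, ⟨b, hb⟩, hy⟩ :=
    (mem_et_iff (obj O) _).1 (Presheaf.imageSieve_mem (XS R).smallEtaleTopology S.g.hom s) ⟨x, hx⟩
  obtain ⟨N, r, hyN, hr⟩ := exists_local_open hX (φ ≫ subHom (U₀ R) O) y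
  have hxy : (φ ≫ subHom (U₀ R) O).left y = x := congrArg Subtype.val hy
  obtain ⟨f, hxf, hfN⟩ := exists_basic (show x ∈ N ⊓ O from ⟨hxy ▸ hyN, hx⟩)
  refine ⟨f, hxf, hfN.trans inf_le_right, S.X₂.obj.map (res (hfN.trans inf_le_left) ≫ r).op b, ?_⟩
  refine (g_res (S := S) _ b).trans ((congrArg _ hb).trans ?_)
  have e : (res (hfN.trans inf_le_left) ≫ r) ≫ φ = res (hfN.trans inf_le_right) := by
    haveI := mono_obj O
    apply (cancel_mono (subHom (U₀ R) O)).1
    rw [Category.assoc, Category.assoc, hr, res_fac, res_fac]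
  change S.X₃.obj.map _ (S.X₃.obj.map φ.op s) = S.X₃.obj.map _ s
  rw [res_res, e]

include hS in
theorem exists_lift_basic (hX : ZL (XS R)) (hP : Split S.X₁) (e : R) (s : secs S.X₃ (D e)) :
    ∃ t, S.g.hom.app _ t = s := by
  let L : (XS R).Opens → Prop := fun O => ∃ h : O ≤ D e, ∃ t, S.g.hom.app _ t = rmap S.X₃ h s
  have hmono : ∀ {O O'}, O' ≤ O → L O → L O' := by
    rintro O O' h ⟨h', t, ht⟩
    exact ⟨h.trans h', rmap S.X₂ h t, by rw [g_rmap, ht, rmap_rmap]⟩
  let J : Ideal R :=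
    { carrier := {f | L (D (f * e))}
      zero_mem' := by
        refine ⟨by simp only [D, zero_mul, PrimeSpectrum.basicOpen_zero]; exact bot_le, 0, @eq_of_isEmpty _ _ S.X₃ ?_ _ _⟩
        exact ⟨fun x => x.2 (by simp)⟩
      smul_mem' := fun c f hf => hmono (by
        rw [smul_eq_mul, mul_assoc]; exact PrimeSpectrum.basicOpen_mul_le_right _ _) hf
      add_mem' := by
        intro f g hf hg
        change L (D (f * e)) at hf
        change L (D (g * e)) at hg
        change L (D ((f + g) * e))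
        have hC : D ((f + g) * e) ≤ D e := PrimeSpectrum.basicOpen_mul_le_right _ _
        rw [add_mul] at hC ⊢
        generalize f * e = f', g * e = g' at hf hg hC ⊢
        obtain ⟨hA, ta, hta⟩ := hmono (inf_le_left : D f' ⊓ D (f' + g') ≤ _) hf
        obtain ⟨hB, tb, htb⟩ := hmono (inf_le_left : D g' ⊓ D (f' + g') ≤ _) hg
        have iA : D f' ⊓ D g' ⊓ D (f' + g') ≤ D f' ⊓ D (f' + g') := inf_le_inf_right _ inf_le_left
        have iB : D f' ⊓ D g' ⊓ D (f' + g') ≤ D g' ⊓ D (f' + g') := inf_le_inf_right _ inf_le_right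
        obtain ⟨d, hd⟩ := exists_f hS (rmap S.X₂ iA ta - rmap S.X₂ iB tb) (by
          rw [map_sub, g_rmap, g_rmap, hta, htb, rmap_rmap, rmap_rmap, sub_self])
        obtain ⟨a, b, rfl⟩ := hP f' g' d
        obtain ⟨t, htA, htB⟩ := glue_two S.X₂ (inf_le_right : D f' ⊓ D (f' + g') ≤ _)
          (inf_le_right : D g' ⊓ D (f' + g') ≤ _) (fun x hx => by
            by_cases h1 : x ∈ D f'
            · exact Or.inl ⟨h1, hx⟩
            · refine Or.inr ⟨fun h2 => hx ?_, hx⟩
              exact x.asIdeal.add_mem (not_not.1 h1) h2)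
          (ta - S.f.hom.app _ a) (tb - S.f.hom.app _ b) (by
            have hle : (D f' ⊓ D (f' + g')) ⊓ (D g' ⊓ D (f' + g')) ≤ D f' ⊓ D g' ⊓ D (f' + g') :=
              fun x hx => ⟨⟨hx.1.1, hx.2.1⟩, hx.1.2⟩
            have h := congrArg (rmap S.X₂ hle) hd
            simp only [map_sub, f_rmap, rmap_rmap] at h
            simp only [map_sub]
            rw [sub_eq_sub_iff_sub_eq_sub]
            exact h.symm)
        have eA : S.g.hom.app _ (ta - S.f.hom.app _ a) = rmap S.X₃ hA s := by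
          rw [map_sub, g_f, sub_zero, hta]
        have eB : S.g.hom.app _ (tb - S.f.hom.app _ b) = rmap S.X₃ hB s := by
          rw [map_sub, g_f, sub_zero, htb]
        refine ⟨hC, t, ?_⟩
        refine sect_ext S.X₃ (U := obj (D (f' + g')))
          (fun i : Bool => obj (bif i then D f' ⊓ D (f' + g') else D g' ⊓ D (f' + g')))
          (fun i => match i with
            | true => res inf_le_right
            | false => res inf_le_right) (fun x => ?_) fun i => ?_
        · by_cases h1 : x.1 ∈ D f'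
          · exact ⟨true, ⟨x.1, ⟨h1, x.2⟩⟩, Subtype.ext (res_apply inf_le_right ⟨x.1, ⟨h1, x.2⟩⟩)⟩
          · have hm : x.1 ∈ D g' ⊓ D (f' + g') :=
              ⟨fun h2 => x.2 (x.1.asIdeal.add_mem (not_not.1 h1) h2), x.2⟩
            exact ⟨false, ⟨x.1, hm⟩, Subtype.ext (res_apply inf_le_right ⟨x.1, hm⟩)⟩
        · cases i with
          | true =>
            change rmap S.X₃ (inf_le_right : D f' ⊓ D (f' + g') ≤ _) (S.g.hom.app _ t) =
              rmap S.X₃ (inf_le_right : D f' ⊓ D (f' + g') ≤ _) (rmap S.X₃ hC s)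
            rw [← g_rmap, htA]
            exact eA.trans (rmap_rmap _ _ _ s).symm
          | false =>
            change rmap S.X₃ (inf_le_right : D g' ⊓ D (f' + g') ≤ _) (S.g.hom.app _ t) =
              rmap S.X₃ (inf_le_right : D g' ⊓ D (f' + g') ≤ _) (rmap S.X₃ hC s)
            rw [← g_rmap, htB]
            exact eB.trans (rmap_rmap _ _ _ s).symm }
  have he : e ∈ J.radical := by
    rw [Ideal.radical_eq_sInf, Submodule.mem_sInf]
    rintro P ⟨hJP, hP⟩
    by_contra heP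
    obtain ⟨f, hxf, hfe, t, ht⟩ := local_lift hS hX s (x := ⟨P, hP⟩) heP
    exact hxf (hJP (hmono (PrimeSpectrum.basicOpen_mul_le_left f e) ⟨hfe, t, ht⟩))
  obtain ⟨n, hn⟩ := he
  have h1 : L (D e) := hmono (fun x hx => by
    intro h
    rw [← pow_succ] at h
    exact hx (x.isPrime.mem_of_pow_mem _ h)) hn
  obtain ⟨h, t, ht⟩ := h1
  refine ⟨t, ht.trans ?_⟩
  haveI := mono_obj (D e)
  change S.X₃.obj.map (res h).op s = s
  rw [show res h = 𝟙 (obj (D e)) from (cancel_mono (subHom (U₀ R) (D e))).1 (by rw [res_fac, Category.id_comp])]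
  exact ConcreteCategory.congr_hom (S.X₃.obj.map_id _) s

end ShortExact

theorem split_of_injective (I : EtCoh.Ab (XS R)) [Injective I] : Split I := fun f g s => by
  haveI := mono_res (R := R) (inf_le_inf_right (D (f + g)) (inf_le_left : D f ⊓ D g ≤ D f))
  obtain ⟨a, ha⟩ := EtStalk.surjective_map_of_injective I
    (res (inf_le_inf_right (D (f + g)) (inf_le_left : D f ⊓ D g ≤ D f))) s
  exact ⟨a, 0, by rw [map_zero, sub_zero]; exact ha.symm⟩

theorem split_injSeq (hX : ZL (XS R)) (hF : Split F) : Split (injSeq F).X₃ := fun f g s => by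
  have hS := injSeq_shortExact F
  have heq : D (f * g * (f + g)) = D f ⊓ D g ⊓ D (f + g) := by
    simp only [D, PrimeSpectrum.basicOpen_mul]; rfl
  obtain ⟨t, ht⟩ := exists_lift_basic hS hX hF _ (rmap _ heq.le s)
  obtain ⟨a, b, hab⟩ := split_of_injective (injSeq F).X₂ f g (rmap _ heq.ge t)
  refine ⟨(injSeq F).g.hom.app _ a, (injSeq F).g.hom.app _ b, ?_⟩
  have h := congrArg ((injSeq F).g.hom.app (op (obj (D f ⊓ D g ⊓ D (f + g))))) hab
  rw [map_sub, g_rmap, g_rmap, g_rmap, ht, rmap_rmap] at h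
  refine Eq.trans ?_ h
  haveI := mono_obj (D f ⊓ D g ⊓ D (f + g))
  change s = (injSeq F).X₃.obj.map (res (heq.ge.trans heq.le)).op s
  rw [show res (heq.ge.trans heq.le) = 𝟙 (obj (D f ⊓ D g ⊓ D (f + g))) from
    (cancel_mono (subHom (U₀ R) _)).1 (by rw [res_fac, Category.id_comp])]
  exact (ConcreteCategory.congr_hom ((injSeq F).X₃.obj.map_id _) s).symm

theorem exists_lift_top {S : ShortComplex (EtCoh.Ab (XS R))} (hS : S.ShortExact) (hX : ZL (XS R))
    (hP : Split S.X₁) (s : S.X₃.obj.obj (op (U₀ R))) : ∃ t, S.g.hom.app _ t = s := by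
  obtain ⟨t, ht⟩ := exists_lift_basic hS hX hP 1 (S.X₃.obj.map (subHom (U₀ R) (D 1)).op s)
  have hr : Set.range (𝟙 (U₀ R) : U₀ R ⟶ U₀ R).left ⊆ ((D (1 : R) : (XS R).Opens) : Set (XS R)) :=
    fun x _ => by simp [D]; trivial
  refine ⟨S.X₂.obj.map (toSub (𝟙 (U₀ R)) (D 1) hr).op t, ?_⟩
  rw [g_res, ht, res_res, toSub_fac']
  exact ConcreteCategory.congr_hom (S.X₃.obj.map_id _) s

theorem subsingleton_H_of_split (hX : ZL (XS R)) : ∀ (q : ℕ) (F : EtCoh.Ab (XS R)), Split F →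
    Subsingleton (EtCoh.H (XS R) F (q + 1))
  | 0, F, hF => by
    have hS := injSeq_shortExact F
    suffices H : ∀ z : Ext (EtCoh.const (XS R) ℤ) (injSeq F).X₁ 1, z = 0 from
      ⟨fun a b => (H a).trans (H b).symm⟩
    intro z
    obtain ⟨w, rfl⟩ := Ext.covariant_sequence_exact₁ (EtCoh.const (XS R) ℤ) hS z
      (Ext.eq_zero_of_injective _) (n₀ := 0) rfl
    obtain ⟨φ, rfl⟩ := (Ext.mk₀_bijective _ _).2 w
    obtain ⟨t, ht⟩ := exists_lift_top hS hX hF (φ.hom.app (op (U₀ R)) (EtStalk.oneSec (XS R)))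
    let ψ : EtCoh.const (XS R) ℤ ⟶ (injSeq F).X₂ := ((EtCore.constAdj (XS R)).homEquiv _ _).symm
      ((AddCommGrpCat.uliftZMultiplesAddEquiv _).symm t)
    have hψ : ψ.hom.app (op (U₀ R)) (EtStalk.oneSec (XS R)) = t := by
      have h := ((EtCore.constAdj (XS R)).homEquiv (AddCommGrpCat.of (ULift.{u + 1} ℤ))
        (injSeq F).X₂).apply_symm_apply ((AddCommGrpCat.uliftZMultiplesAddEquiv _).symm t)
      rw [Adjunction.homEquiv_unit] at h
      refine (ConcreteCategory.congr_hom h (ULift.up 1)).trans ?_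
      exact (AddCommGrpCat.uliftZMultiplesAddEquiv _).apply_symm_apply t
    have e : φ = ψ ≫ (injSeq F).g := by
      refine EtStalk.const_hom_ext ?_
      show _ = (injSeq F).g.hom.app _ (ψ.hom.app (op (U₀ R)) (EtStalk.oneSec (XS R)))
      rw [hψ, ht]
    rw [e, ← Ext.mk₀_comp_mk₀, Ext.comp_assoc_of_second_deg_zero, hS.comp_extClass, Ext.comp_zero]
  | q + 1, F, hF => by
    have hS := injSeq_shortExact F
    haveI := subsingleton_H_of_split hX q (injSeq F).X₃ (split_injSeq hX hF)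
    suffices H : ∀ z : Ext (EtCoh.const (XS R) ℤ) (injSeq F).X₁ (q + 1 + 1), z = 0 from
      ⟨fun a b => (H a).trans (H b).symm⟩
    intro z
    obtain ⟨w, rfl⟩ := Ext.covariant_sequence_exact₁ (EtCoh.const (XS R) ℤ) hS z
      (Ext.eq_zero_of_injective _) (n₀ := q + 1) rfl
    rw [Subsingleton.elim (α := EtCoh.H (XS R) (injSeq F).X₃ (q + 1)) w 0, Ext.zero_comp]

section Const

variable (M : Type) [AddCommGroup M]

/-- The constant sheaf. -/
noncomputable abbrev cF : EtCoh.Ab (XS R) := EtCoh.const (XS R) M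

theorem cst_sub (V : (XS R).Etale) (m m' : ULift.{u + 1} M) : cst M V (m - m') = cst M V m - cst M V m' :=
  map_sub _ m m'

theorem exists_value (hX : ZL (XS R)) {O : (XS R).Opens} (s : secs (cF (R := R) M) O) {x : XS R} (hx : x ∈ O) :
    ∃ (m : ULift.{u + 1} M) (N : (XS R).Opens) (h : N ≤ O), x ∈ N ∧ rmap (cF M) h s = cst M (obj N) m := by
  obtain ⟨Y, φ, y, ⟨b, hb⟩, hy⟩ := (mem_et_iff (obj O) _).1
    (Presheaf.imageSieve_mem (XS R).smallEtaleTopology (toSheafify (XS R).smallEtaleTopology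
      ((Functor.const (XS R).Etaleᵒᵖ).obj (AddCommGrpCat.of (ULift.{u + 1} M)))) s) ⟨x, hx⟩
  obtain ⟨N, r, hyN, hr⟩ := exists_local_open hX (φ ≫ subHom (U₀ R) O) y
  have hxy : (φ ≫ subHom (U₀ R) O).left y = x := congrArg Subtype.val hy
  refine ⟨b, N ⊓ O, inf_le_right, ⟨hxy ▸ hyN, hx⟩, ?_⟩
  have e : (res (inf_le_left : N ⊓ O ≤ N) ≫ r) ≫ φ = res inf_le_right := by
    haveI := mono_obj O
    apply (cancel_mono (subHom (U₀ R) O)).1
    rw [Category.assoc, Category.assoc, hr, res_fac, res_fac]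
  rw [← cst_res M (res (inf_le_left : N ⊓ O ≤ N) ≫ r)]
  refine Eq.trans ?_ (congrArg ((cF (R := R) M).obj.map (res (inf_le_left : N ⊓ O ≤ N) ≫ r).op) hb.symm)
  change _ = (cF (R := R) M).obj.map _ ((cF (R := R) M).obj.map φ.op s)
  rw [res_res, e]

theorem value_unique {O : (XS R).Opens} (s : secs (cF (R := R) M) O) {x : XS R} {N N' : (XS R).Opens}
    (h : N ≤ O) (h' : N' ≤ O) (hx : x ∈ N) (hx' : x ∈ N') {m m' : ULift.{u + 1} M}
    (e : rmap (cF M) h s = cst M (obj N) m) (e' : rmap (cF M) h' s = cst M (obj N') m') : m = m' := by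
  refine cst_injective M (obj (N ⊓ N')) ⟨⟨x, hx, hx'⟩⟩ ?_
  rw [← cst_res M (res (inf_le_left : N ⊓ N' ≤ N)), ← cst_res M (res (inf_le_right : N ⊓ N' ≤ N')),
    ← e, ← e']
  exact (rmap_rmap _ _ h s).trans (rmap_rmap _ _ h' s).symm

theorem exists_sec {A : (XS R).Opens} (a : XS R → ULift.{u + 1} M) (ha : LCOn (A : Set (XS R)) a) :
    ∃ t : secs (cF (R := R) M) A, ∀ x ∈ A, ∃ (N : (XS R).Opens) (h : N ≤ A), x ∈ N ∧
      rmap (cF M) h t = cst M (obj N) (a x) := by
  choose W hW hxW hc using ha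
  let N : A → (XS R).Opens := fun x => ⟨W x.1 x.2, hW x.1 x.2⟩ ⊓ A
  obtain ⟨t, ht, -⟩ := glue (cF (R := R) M) (U := obj A) (fun x => obj (N x))
    (fun x => res (inf_le_right : N x ≤ A))
    (fun x => ⟨⟨x.1, x.2⟩, ⟨x.1, hxW x.1 x.2, x.2⟩, Subtype.ext (res_apply _ _)⟩)
    (fun x => cst M (obj (N x)) (a x.1)) (fun i j Z u v e => by
      rw [cst_res, cst_res]
      rcases isEmpty_or_nonempty Z.left with hZ | ⟨⟨z⟩⟩
      · exact eq_of_isEmpty _ hZ _ _
      obtain ⟨c, hc1, hc2⟩ := exists_factor _ _ u v e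
      have hz := (c.left z).2
      rw [← hc i.1 i.2 (c.left z).1 ⟨hz.1.1, hz.1.2⟩, ← hc j.1 j.2 (c.left z).1 ⟨hz.2.1, hz.2.2⟩])
  exact ⟨t, fun x hx => ⟨N ⟨x, hx⟩, inf_le_right, ⟨hxW x hx, hx⟩, ht ⟨x, hx⟩⟩⟩

theorem eq_sub_of_values {C A B : (XS R).Opens} (hA : C ≤ A) (hB : C ≤ B) (s : secs (cF (R := R) M) C)
    (ta : secs (cF (R := R) M) A) (tb : secs (cF (R := R) M) B)
    (h : ∀ x ∈ C, ∃ (N : (XS R).Opens) (hN : N ≤ C) (m a b : ULift.{u + 1} M), x ∈ N ∧
      rmap (cF M) hN s = cst M (obj N) m ∧ rmap (cF M) (hN.trans hA) ta = cst M (obj N) a ∧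
      rmap (cF M) (hN.trans hB) tb = cst M (obj N) b ∧ m = a - b) :
    s = rmap (cF M) hA ta - rmap (cF M) hB tb := by
  choose N hN m a b hxN h1 h2 h3 h4 using h
  refine sect_ext (cF (R := R) M) (U := obj C) (fun x : C => obj (N x.1 x.2))
    (fun x => res (hN x.1 x.2))
    (fun x => ⟨⟨x.1, x.2⟩, ⟨x.1, hxN x.1 x.2⟩, Subtype.ext (res_apply _ _)⟩) fun x => ?_
  change rmap (cF M) (hN x.1 x.2) s = rmap (cF M) (hN x.1 x.2) (rmap (cF M) hA ta - rmap (cF M) hB tb)
  rw [map_sub, rmap_rmap, rmap_rmap, h1, h2, h3, h4, cst_sub]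

theorem rmap_cst {O O' : (XS R).Opens} (h : O ≤ O') (m : ULift.{u + 1} M) :
    rmap (cF (R := R) M) h (cst M (obj O') m) = cst M (obj O) m :=
  cst_res M (res h) m

theorem split_const [Finite M] (hR : Curves.IsAIC R) (hX : ZL (XS R)) : Split (cF (R := R) M) := by
  classical
  intro f g s
  choose m N hN hxN hm using fun (x : XS R) (hx : x ∈ (D f ⊓ D g ⊓ D (f + g))) => exists_value M hX s hx
  let φ : XS R → M := fun x => if hx : x ∈ (D f ⊓ D g ⊓ D (f + g)) then (m x hx).down else 0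
  have hφ : LCOn ((D f ⊓ D g ⊓ D (f + g)) : Set (XS R)) φ := fun x hx => by
    refine ⟨N x hx, (N x hx).2, hxN x hx, fun y hy => ?_⟩
    rw [show φ y = (m y hy.2).down from dif_pos hy.2, show φ x = (m x hx).down from dif_pos hx]
    exact congrArg ULift.down
      (value_unique M s (hN y hy.2) (hN x hx) (hxN y hy.2) hy.1 (hm y hy.2) (hm x hx))
  obtain ⟨a, b, ha, hb, hab⟩ := exists_decomp_fun hR f g hφ
  obtain ⟨ta, hta⟩ := exists_sec M (fun x => ULift.up (a x)) (ha.comp ULift.up)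
  obtain ⟨tb, htb⟩ := exists_sec M (fun x => ULift.up (b x)) (hb.comp ULift.up)
  refine ⟨ta, tb, ?_⟩
  have hle : ∀ x ∈ (D f ⊓ D g ⊓ D (f + g)), x ∈ D f ⊓ D (f + g) ∧ x ∈ D g ⊓ D (f + g) := fun x hx =>
    ⟨⟨hx.1.1, hx.2⟩, ⟨hx.1.2, hx.2⟩⟩
  refine eq_sub_of_values M _ _ s ta tb fun x hx => ?_
  obtain ⟨Na, hNa, hxNa, hea⟩ := hta x (hle x hx).1
  obtain ⟨Nb, hNb, hxNb, heb⟩ := htb x (hle x hx).2
  have l1 : N x hx ⊓ Na ⊓ Nb ≤ N x hx := inf_le_left.trans inf_le_left
  have l2 : N x hx ⊓ Na ⊓ Nb ≤ Na := inf_le_left.trans inf_le_right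
  have l3 : N x hx ⊓ Na ⊓ Nb ≤ Nb := inf_le_right
  refine ⟨N x hx ⊓ Na ⊓ Nb, l1.trans (hN x hx), m x hx, ULift.up (a x), ULift.up (b x),
    ⟨⟨hxN x hx, hxNa⟩, hxNb⟩, ?_, ?_, ?_, ?_⟩
  · rw [← rmap_rmap (cF M) l1 (hN x hx), hm x hx, rmap_cst]
  · exact ((rmap_rmap (cF M) l2 hNa ta).symm.trans (congrArg (rmap (cF M) l2) hea)).trans (rmap_cst M l2 _)
  · exact ((rmap_rmap (cF M) l3 hNb tb).symm.trans (congrArg (rmap (cF M) l3) heb)).trans (rmap_cst M l3 _)
  · exact ULift.ext _ _ (((show φ x = (m x hx).down from dif_pos hx).symm).trans (hab x hx))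

end Const

theorem subsingleton_H_const (hR : Curves.IsAIC R) (M : Type) [AddCommGroup M] [Finite M] {i : ℕ} (hi : 0 < i) :
    Subsingleton (EtCoh.H (XS R) (EtCoh.const (XS R) M) i) := by
  obtain ⟨q, rfl⟩ := Nat.exists_eq_add_of_le' hi
  exact subsingleton_H_of_split (zl_spec hR) q _ (split_const M hR (zl_spec hR))

end Groth.Agent.AIC6
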