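import Groth.Agent.Lib.AIC6.Torsor

/-!
# Locally constant functions on `D(fg)` are differences, over an absolutely integrally closed ring
-/

set_option autoImplicit false
universe u v

open Polynomial PrimeSpectrum

namespace Groth.Agent.AIC6

variable {R : Type u} [CommRing R]

/-- Locally constant on a set. -/
def LCOn {X : Type u} [TopologicalSpace X] {M : Type v} (D : Set X) (φ : X → M) : Prop :=
  ∀ P ∈ D, ∃ W : Set X, IsOpen W ∧ P ∈ W ∧ ∀ Q ∈ W ∩ D, φ Q = φ P

theorem LCOn.comp {X : Type u} [TopologicalSpace X] {M : Type v} {N : Type*} {D : Set X} {φ : X → M}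
    (h : LCOn D φ) (F : M → N) : LCOn D (F ∘ φ) := fun P hP => by
  obtain ⟨W, hW, hPW, hc⟩ := h P hP
  exact ⟨W, hW, hPW, fun Q hQ => congrArg F (hc Q hQ)⟩

theorem LCOn.mono {X : Type u} [TopologicalSpace X] {M : Type v} {D D' : Set X} {φ : X → M}
    (h : LCOn D φ) (hD : D' ⊆ D) : LCOn D' φ := fun P hP => by
  obtain ⟨W, hW, hPW, hc⟩ := h P (hD hP)
  exact ⟨W, hW, hPW, fun Q hQ => hc Q ⟨hQ.1, hD hQ.2⟩⟩

theorem LCOn.comp₂ {X : Type u} [TopologicalSpace X] {M : Type v} {N K : Type*} {D : Set X} {φ : X → M}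
    {ψ : X → N} (h : LCOn D φ) (h' : LCOn D ψ) (F : M → N → K) : LCOn D fun P => F (φ P) (ψ P) :=
  fun P hP => by
  obtain ⟨W, hW, hPW, hc⟩ := h P hP
  obtain ⟨W', hW', hPW', hc'⟩ := h' P hP
  exact ⟨W ∩ W', hW.inter hW', ⟨hPW, hPW'⟩, fun Q hQ => by
    dsimp only
    rw [hc Q ⟨hQ.1.1, hQ.2⟩, hc' Q ⟨hQ.1.2, hQ.2⟩]⟩

/-- Evaluation `R_h → κ(P)` for `P ∈ D(h)`. -/
noncomputable def chi (h : R) (P : PrimeSpectrum R) (hP : h ∉ P.asIdeal) :
    Localization.Away h →+* P.asIdeal.ResidueField :=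
  IsLocalization.Away.lift h (g := algebraMap R P.asIdeal.ResidueField)
    (IsUnit.mk0 _ fun h0 => hP (Ideal.algebraMap_residueField_eq_zero.1 h0))

@[simp] theorem chi_algebraMap (h : R) (P : PrimeSpectrum R) (hP : h ∉ P.asIdeal) (r : R) :
    chi h P hP (algebraMap R _ r) = algebraMap R _ r :=
  IsLocalization.Away.lift_eq _ _ _

theorem comap_ker_chi (h : R) (P : PrimeSpectrum R) (hP : h ∉ P.asIdeal) :
    (RingHom.ker (chi h P hP)).comap (algebraMap R (Localization.Away h)) = P.asIdeal := by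
  ext r
  rw [Ideal.mem_comap, RingHom.mem_ker, chi_algebraMap, Ideal.algebraMap_residueField_eq_zero]

theorem isNilpotent_of_chi {h : R} {z : Localization.Away h}
    (hz : ∀ P hP, chi h P hP z = 0) : IsNilpotent z := by
  rw [nilpotent_iff_mem_prime]
  intro Q hQ
  let P : PrimeSpectrum R := PrimeSpectrum.comap (algebraMap R (Localization.Away h)) ⟨Q, hQ⟩
  have hP : h ∉ P.asIdeal := fun hm => hQ.ne_top
    (Ideal.eq_top_of_isUnit_mem _ hm (IsLocalization.Away.algebraMap_isUnit h))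
  haveI := RingHom.ker_isPrime (chi h P hP)
  have : (⟨_, RingHom.ker_isPrime (chi h P hP)⟩ : PrimeSpectrum (Localization.Away h)) = ⟨Q, hQ⟩ :=
    localization_comap_injective _ (Submonoid.powers h) (PrimeSpectrum.ext (comap_ker_chi h P hP))
  have h2 : RingHom.ker (chi h P hP) = Q := congrArg PrimeSpectrum.asIdeal this
  rw [← h2]
  exact hz P hP

theorem eq_zero_of_chi {h : R} {z : Localization.Away h} (hi : IsIdempotentElem z)
    (hz : ∀ P hP, chi h P hP z = 0) : z = 0 :=
  hi.eq_zero_of_isNilpotent (isNilpotent_of_chi hz)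

variable {f g : R}

theorem chi_resL (P : PrimeSpectrum R) (hP : f * g ∉ P.asIdeal) (hPf : f ∉ P.asIdeal)
    (a : Localization.Away f) : chi (f * g) P hP (resL f g a) = chi f P hPf a := by
  have : (chi (f * g) P hP).comp (resL f g) = chi f P hPf :=
    IsLocalization.ringHom_ext (Submonoid.powers f) (RingHom.ext fun r => by simp)
  exact RingHom.congr_fun this a

theorem chi_resR (P : PrimeSpectrum R) (hP : f * g ∉ P.asIdeal) (hPg : g ∉ P.asIdeal)
    (a : Localization.Away g) : chi (f * g) P hP (resR f g a) = chi g P hPg a := by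
  have : (chi (f * g) P hP).comp (resR f g) = chi g P hPg :=
    IsLocalization.ringHom_ext (Submonoid.powers g) (RingHom.ext fun r => by simp)
  exact RingHom.congr_fun this a

section Roots

variable {ζ : R} {p : ℕ} (hp : p.Prime) (hζ : qn ζ p = 0)

include hp hζ in
/-- A root of `ψ` in `R_h` gives a locally constant `ZMod p`-valued function. -/
theorem exists_fun_of_root {h : R} {a : Localization.Away h} (ha : psi (algebraMap R _ ζ) p a = 0) :
    ∃ m : PrimeSpectrum R → ZMod p, LCOn (basicOpen h : Set (PrimeSpectrum R)) m ∧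
      ∀ P hP, chi h P hP a = qn (algebraMap R _ ζ) (m P).val := by
  classical
  haveI : NeZero p := ⟨hp.ne_zero⟩
  have key : ∀ P hP, ∃ m : ZMod p, chi h P hP a = qn (algebraMap R _ ζ) m.val := by
    intro P hP
    have h0 := congrArg (chi h P hP) ha
    rw [map_psi, chi_algebraMap, map_zero, psi, Finset.prod_eq_zero_iff] at h0
    obtain ⟨m, hm, hm0⟩ := h0
    exact ⟨m, by rw [ZMod.val_natCast, Nat.mod_eq_of_lt (Finset.mem_range.1 hm)]; exact sub_eq_zero.1 hm0⟩
  choose m hm using key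
  let m' : PrimeSpectrum R → ZMod p := fun P => if hP : h ∉ P.asIdeal then m P hP else 0
  have hm' : ∀ P hP, chi h P hP a = qn (algebraMap R _ ζ) (m' P).val := fun P hP => by
    simp only [m', dif_pos hP]; exact hm P hP
  obtain ⟨n, A, hA⟩ := exists_mul_pow h a
  have hval : ∀ (P : PrimeSpectrum R) (hP : h ∉ P.asIdeal) (k : ZMod p),
      A - h ^ n * qn ζ k.val ∈ P.asIdeal ↔ m' P = k := by
    intro P hP k
    have e := congrArg (chi h P hP) hA
    rw [map_mul, chi_algebraMap, chi_algebraMap, hm' P hP] at e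
    have hn : (algebraMap R P.asIdeal.ResidueField) (h ^ n) ≠ 0 := by
      rw [map_pow]; exact pow_ne_zero _ fun h0 => hP (Ideal.algebraMap_residueField_eq_zero.1 h0)
    rw [← Ideal.algebraMap_residueField_eq_zero, map_sub, map_mul, map_qn, ← e,
      mul_comm (algebraMap R _ (h ^ n)), ← sub_mul, mul_eq_zero, or_iff_left hn, sub_eq_zero]
    refine ⟨fun he => ?_, fun he => by rw [he]⟩
    by_contra hne
    exact (isUnit_qn_sub hp (by rw [← map_qn, hζ, map_zero]) (ZMod.val_lt _) (ZMod.val_lt _)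
      (fun hv => hne (ZMod.val_injective p hv))).ne_zero (sub_eq_zero.2 he)
  refine ⟨m', fun P hP => ?_, hm'⟩
  refine ⟨(⋂ k ∈ ((Finset.univ : Finset (ZMod p)).erase (m' P)),
    (basicOpen (A - h ^ n * qn ζ k.val) : Set (PrimeSpectrum R))),
    isOpen_biInter_finset fun k _ => (basicOpen _).2, ?_, ?_⟩
  · simp only [Set.mem_iInter, Finset.mem_erase, SetLike.mem_coe, mem_basicOpen]
    exact fun k hk hmem => hk.1 ((hval P hP k).1 hmem).symm
  · rintro Q ⟨hQ, hQh⟩
    simp only [Set.mem_iInter, Finset.mem_erase, SetLike.mem_coe, mem_basicOpen] at hQ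
    by_contra hne
    exact hQ (m' Q) ⟨hne, Finset.mem_univ _⟩ ((hval Q hQh _).2 rfl)

include hp hζ in
/-- A locally constant `ZMod p`-valued function on `D(h)` is given by a root of `ψ`. -/
theorem exists_root_of_fun {h : R} {φ : PrimeSpectrum R → ZMod p}
    (hφ : LCOn (basicOpen h : Set (PrimeSpectrum R)) φ) :
    ∃ x : Localization.Away h, psi (algebraMap R _ ζ) p x = 0 ∧
      ∀ P hP, chi h P hP x = qn (algebraMap R _ ζ) (φ P).val := by
  classical
  haveI : NeZero p := ⟨hp.ne_zero⟩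
  let c : PrimeSpectrum (Localization.Away h) → PrimeSpectrum R :=
    PrimeSpectrum.comap (algebraMap R (Localization.Away h))
  have hc : Continuous c := PrimeSpectrum.continuous_comap _
  have hcm : ∀ Q, c Q ∈ (basicOpen h : Set (PrimeSpectrum R)) := fun Q => by
    rw [← localization_away_comap_range (Localization.Away h) h]; exact ⟨Q, rfl⟩
  have hlc : IsLocallyConstant (φ ∘ c) := by
    rw [IsLocallyConstant.iff_exists_open]
    intro Q
    obtain ⟨W, hW, hQW, hconst⟩ := hφ (c Q) (hcm Q)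
    exact ⟨c ⁻¹' W, hW.preimage hc, hQW, fun Q' hQ' => hconst _ ⟨hQ', hcm Q'⟩⟩
  have he : ∀ m : ZMod p, ∃ e : Localization.Away h, IsIdempotentElem e ∧
      (φ ∘ c) ⁻¹' {m} = (basicOpen e : Set (PrimeSpectrum (Localization.Away h))) := fun m =>
    PrimeSpectrum.isClopen_iff.1 (hlc.isClopen_fiber m)
  choose e hei hee using he
  have hchi : ∀ P hP (m : ZMod p), chi h P hP (e m) = if φ P = m then 1 else 0 := by
    intro P hP m
    haveI := RingHom.ker_isPrime (chi h P hP)
    let Q : PrimeSpectrum (Localization.Away h) := ⟨RingHom.ker (chi h P hP), this⟩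
    have hQ : c Q = P := PrimeSpectrum.ext (comap_ker_chi h P hP)
    have hmem : Q ∈ (φ ∘ c) ⁻¹' {m} ↔ φ P = m := by simp [hQ]
    rw [hee, SetLike.mem_coe, mem_basicOpen, RingHom.mem_ker] at hmem
    rcases IsIdempotentElem.iff_eq_zero_or_one.1 ((hei m).map (chi h P hP)) with h0 | h0
    · rw [if_neg fun hh => hmem.2 hh h0, h0]
    · rw [if_pos (hmem.1 (by rw [h0]; exact one_ne_zero)), h0]
  have horth : ∀ m k : ZMod p, m ≠ k → e m * e k = 0 := fun m k hmk =>
    eq_zero_of_chi ((hei m).mul (hei k)) fun P hP => by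
      rw [map_mul, hchi, hchi]
      split_ifs with h1 h2 <;> simp_all
  have hsum_idem : IsIdempotentElem (∑ m, e m) := by
    unfold IsIdempotentElem
    rw [Finset.sum_mul]
    refine Finset.sum_congr rfl fun m _ => ?_
    rw [Finset.mul_sum, Finset.sum_eq_single m (fun k _ hk => horth m k hk.symm) (by simp), hei m]
  have hsum : ∑ m, e m = 1 := by
    have := eq_zero_of_chi hsum_idem.one_sub fun P hP => by simp [hchi]
    exact (sub_eq_zero.1 this).symm
  refine ⟨∑ m, e m * qn (algebraMap R _ ζ) m.val, ?_, fun P hP => ?_⟩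
  · have hm : ∀ k, e k * psi (algebraMap R (Localization.Away h) ζ) p
        (∑ m, e m * qn (algebraMap R _ ζ) m.val) = 0 := by
      intro k
      have h1 : e k * ((∑ m, e m * qn (algebraMap R (Localization.Away h) ζ) m.val) -
          qn (algebraMap R _ ζ) k.val) = 0 := by
        rw [mul_sub, Finset.mul_sum, Finset.sum_eq_single k
          (fun m _ hm => by rw [← mul_assoc, horth k m hm.symm, zero_mul]) (by simp),
          ← mul_assoc, hei k, sub_self]
      rw [psi, ← Finset.mul_prod_erase _ _ (Finset.mem_range.2 (ZMod.val_lt k)), ← mul_assoc, h1,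
        zero_mul]
    rw [← one_mul (psi _ _ _), ← hsum, Finset.sum_mul]
    exact Finset.sum_eq_zero fun k _ => hm k
  · rw [map_sum, Finset.sum_eq_single (φ P) (fun m _ hm => by simp [hchi, Ne.symm hm]) (by simp)]
    simp [hchi, map_qn]

end Roots

theorem exists_zeta (hR : Curves.IsAIC R) {p : ℕ} (hp : p.Prime) : ∃ ζ : R, qn ζ p = 0 := by
  cases subsingleton_or_nontrivial R
  · exact ⟨0, Subsingleton.elim _ _⟩
  haveI := Fact.mk hp
  obtain ⟨r, hr⟩ := hR (cyclotomic p R) (cyclotomic.monic p R)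
    (by rw [natDegree_cyclotomic]; exact Nat.totient_pos.2 hp.pos)
  exact ⟨r, by simpa [cyclotomic_prime, qn, eval_finset_sum] using hr⟩

theorem exists_decomp_zmod (hR : Curves.IsAIC R) (hfg : IsCoprime f g) {p : ℕ} (hp : p.Prime)
    {φ : PrimeSpectrum R → ZMod p} (hφ : LCOn (basicOpen (f * g) : Set (PrimeSpectrum R)) φ) :
    ∃ a b : PrimeSpectrum R → ZMod p, LCOn (basicOpen f : Set (PrimeSpectrum R)) a ∧
      LCOn (basicOpen g : Set (PrimeSpectrum R)) b ∧ ∀ P ∈ basicOpen (f * g), φ P = a P - b P := by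
  haveI : NeZero p := ⟨hp.ne_zero⟩
  obtain ⟨ζ, hζ⟩ := exists_zeta hR hp
  obtain ⟨x, hx, hxv⟩ := exists_root_of_fun hp hζ hφ
  obtain ⟨a', b', hpair, ha', hb'⟩ := exists_roots hfg hR hp hζ hx
  obtain ⟨a, ha, hav⟩ := exists_fun_of_root hp hζ ha'
  obtain ⟨b, hb, hbv⟩ := exists_fun_of_root hp hζ hb'
  refine ⟨a, b, ha, hb, fun P hP => ?_⟩
  have hPf : f ∉ P.asIdeal := fun h => hP (P.asIdeal.mul_mem_right g h)
  have hPg : g ∉ P.asIdeal := fun h => hP (P.asIdeal.mul_mem_left f h)
  have hP' : f * g ∉ P.asIdeal := hP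
  have e := congrArg (chi (f * g) P hP') hpair
  have hz : qn (algebraMap R P.asIdeal.ResidueField ζ) p = 0 := by rw [← map_qn, hζ, map_zero]
  rw [chi_resL P hP' hPf, map_gadd, chi_algebraMap, chi_resR P hP' hPg, hxv P hP', hav P hPf, hbv P hPg,
    gadd_qn, ← qn_mod hz (_ + _), ← ZMod.val_add] at e
  rw [eq_sub_iff_add_eq]
  by_contra hne
  exact (isUnit_qn_sub hp hz (ZMod.val_lt _) (ZMod.val_lt _)
    (fun hv => hne (ZMod.val_injective p hv).symm)).ne_zero (sub_eq_zero.2 e)

theorem exists_decomp_coprime (hR : Curves.IsAIC R) (hfg : IsCoprime f g) :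
    ∀ (n : ℕ) (M : Type v) [AddCommGroup M] [Finite M], Nat.card M ≤ n →
    ∀ φ : PrimeSpectrum R → M, LCOn (basicOpen (f * g) : Set (PrimeSpectrum R)) φ →
    ∃ a b : PrimeSpectrum R → M, LCOn (basicOpen f : Set (PrimeSpectrum R)) a ∧
      LCOn (basicOpen g : Set (PrimeSpectrum R)) b ∧ ∀ P ∈ basicOpen (f * g), φ P = a P - b P := by
  intro n
  induction n with
  | zero =>
    intro M _ _ hn
    exact absurd hn (by have : 0 < Nat.card M := Nat.card_pos; omega)
  | succ n ih =>
    intro M _ _ hn φ hφ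
    cases subsingleton_or_nontrivial M
    · exact ⟨fun _ => 0, fun _ => 0, fun P _ => ⟨Set.univ, isOpen_univ, trivial, fun _ _ => rfl⟩,
        fun P _ => ⟨Set.univ, isOpen_univ, trivial, fun _ _ => rfl⟩, fun P _ => Subsingleton.elim _ _⟩
    obtain ⟨p, hp, hdvd⟩ := Nat.exists_prime_and_dvd
      (show Nat.card M ≠ 1 from (Finite.one_lt_card (α := M)).ne')
    haveI := Fact.mk hp
    obtain ⟨z, hz⟩ := exists_prime_addOrderOf_dvd_card' p hdvd
    let ι : ZMod p →+ M := ZMod.lift p ⟨zmultiplesHom M z, by simp [← hz, addOrderOf_nsmul_eq_zero]⟩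
    have hι : Function.Injective ι := by
      refine (ZMod.lift_injective (n := p)).2 fun m hm => ?_
      rw [ZMod.intCast_zmod_eq_zero_iff_dvd, ← hz, addOrderOf_dvd_iff_zsmul_eq_zero]
      exact hm
    let Z := ι.range
    have hcard : Nat.card (M ⧸ Z) ≤ n := by
      have h1 : Nat.card M = Nat.card (M ⧸ Z) * Nat.card Z := AddSubgroup.card_eq_card_quotient_mul_card_addSubgroup Z
      have h2 : Nat.card Z = p := by
        rw [← Nat.card_zmod p]; exact (Nat.card_congr (AddMonoidHom.ofInjective hι).toEquiv).symm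
      have h3 : 0 < Nat.card (M ⧸ Z) := Nat.card_pos
      have := hp.two_le
      rw [h2] at h1
      nlinarith
    obtain ⟨a₀, b₀, ha₀, hb₀, hab₀⟩ := ih (M ⧸ Z) hcard _ (hφ.comp (QuotientAddGroup.mk' Z))
    have hle : ∀ {h : R}, (basicOpen (f * g) : Set (PrimeSpectrum R)) ⊆ basicOpen h ↔
        basicOpen (f * g) ≤ basicOpen h := Iff.rfl
    have ha₁ := (ha₀.mono (hle.2 (basicOpen_mul_le_left f g))).comp Quotient.out
    have hb₁ := (hb₀.mono (hle.2 (basicOpen_mul_le_right f g))).comp Quotient.out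
    obtain ⟨a₂, b₂, ha₂, hb₂, hab₂⟩ := exists_decomp_zmod hR hfg hp
      (φ := Function.invFun ι ∘ fun P => φ P - (Quotient.out (a₀ P) - Quotient.out (b₀ P)))
      ((hφ.comp₂ (ha₁.comp₂ hb₁ fun x y => x - y) fun x y => x - y).comp (Function.invFun ι))
    refine ⟨fun P => Quotient.out (a₀ P) + ι (a₂ P), fun P => Quotient.out (b₀ P) + ι (b₂ P),
      (ha₀.comp Quotient.out).comp₂ ha₂ fun x y => x + ι y,
      (hb₀.comp Quotient.out).comp₂ hb₂ fun x y => x + ι y, fun P hP => ?_⟩
    have hmem : φ P - (Quotient.out (a₀ P) - Quotient.out (b₀ P)) ∈ Z := by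
      rw [← QuotientAddGroup.eq_zero_iff]
      have := hab₀ P hP
      simp only [Function.comp_apply, QuotientAddGroup.mk'_apply] at this
      simp [this, QuotientAddGroup.out_eq']
    have e : φ P - (Quotient.out (a₀ P) - Quotient.out (b₀ P)) = ι (a₂ P) - ι (b₂ P) := by
      rw [← map_sub, ← hab₂ P hP]
      exact (Function.invFun_eq (f := ι) hmem).symm
    dsimp only
    rw [eq_add_of_sub_eq e]
    abel

/-- Decomposition on two standard opens inside `D(f + g)`. -/
theorem exists_decomp_fun (hR : Curves.IsAIC R) (f g : R) {M : Type v} [AddCommGroup M] [Finite M]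
    {φ : PrimeSpectrum R → M}
    (hφ : LCOn ((basicOpen f ⊓ basicOpen g ⊓ basicOpen (f + g) : TopologicalSpace.Opens _) : Set (PrimeSpectrum R)) φ) :
    ∃ a b : PrimeSpectrum R → M,
      LCOn ((basicOpen f ⊓ basicOpen (f + g) : TopologicalSpace.Opens _) : Set (PrimeSpectrum R)) a ∧
      LCOn ((basicOpen g ⊓ basicOpen (f + g) : TopologicalSpace.Opens _) : Set (PrimeSpectrum R)) b ∧
      ∀ P ∈ basicOpen f ⊓ basicOpen g ⊓ basicOpen (f + g), φ P = a P - b P := by
  let S := Localization.Away (f + g)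
  let c : PrimeSpectrum S → PrimeSpectrum R := PrimeSpectrum.comap (algebraMap R S)
  have hce : Topology.IsOpenEmbedding c := localization_away_isOpenEmbedding S (f + g)
  have hrange : Set.range c = basicOpen (f + g) := localization_away_comap_range S (f + g)
  have hcm : ∀ (r : R) Q, c Q ∈ basicOpen r ↔ Q ∈ basicOpen (algebraMap R S r) := fun r Q => Iff.rfl
  have hcfg : ∀ Q, c Q ∈ basicOpen (f + g) := fun Q => SetLike.mem_coe.1 (hrange.le ⟨Q, rfl⟩)
  obtain ⟨v, hv⟩ := (IsLocalization.Away.algebraMap_isUnit (S := S) (f + g)).exists_left_inv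
  have hco : IsCoprime (algebraMap R S f) (algebraMap R S g) :=
    ⟨v, v, by rw [← mul_add, ← map_add, hv]⟩
  have hS : Curves.IsAIC S := isAIC_of_isLocalization hR (Submonoid.powers (f + g)) S
  obtain ⟨a', b', ha', hb', hab⟩ := exists_decomp_coprime hS hco (Nat.card M) M le_rfl (φ ∘ c) (by
    intro Q hQ
    rw [SetLike.mem_coe, basicOpen_mul] at hQ
    obtain ⟨W, hW, hQW, hconst⟩ := hφ (c Q) ⟨hQ, hcfg Q⟩
    refine ⟨c ⁻¹' W, hW.preimage hce.continuous, hQW, fun Q' hQ' => hconst _ ⟨hQ'.1, ?_⟩⟩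
    have h2 : Q' ∈ basicOpen (algebraMap R S f * algebraMap R S g) := hQ'.2
    rw [basicOpen_mul] at h2
    exact ⟨h2, hcfg Q'⟩)
  have key : ∀ (r : R) (m : PrimeSpectrum S → M),
      LCOn (basicOpen (algebraMap R S r) : Set (PrimeSpectrum S)) m →
      LCOn ((basicOpen r ⊓ basicOpen (f + g) : TopologicalSpace.Opens _) : Set (PrimeSpectrum R))
        (Function.extend c m 0) := by
    intro r m hm P hP
    obtain ⟨Q, rfl⟩ : P ∈ Set.range c := hrange ▸ hP.2
    obtain ⟨W, hW, hQW, hconst⟩ := hm Q hP.1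
    refine ⟨c '' W, hce.isOpenMap _ hW, ⟨Q, hQW, rfl⟩, ?_⟩
    rintro _ ⟨⟨Q', hQ', rfl⟩, hQ'r⟩
    rw [hce.injective.extend_apply, hce.injective.extend_apply]
    exact hconst Q' ⟨hQ', hQ'r.1⟩
  refine ⟨Function.extend c a' 0, Function.extend c b' 0, key f a' ha', key g b' hb', fun P hP => ?_⟩
  obtain ⟨Q, rfl⟩ : P ∈ Set.range c := hrange ▸ hP.2
  rw [hce.injective.extend_apply, hce.injective.extend_apply]
  exact hab Q (by rw [basicOpen_mul]; exact hP.1)

end Groth.Agent.AIC6
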