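import Groth.Agent.Lib.AIC6.Decomp
import Groth.Agent.Lib.NormSep24.Vanish
import Groth.Agent.Lib.AbsClosure4.Algebra

/-!
# Etale morphisms to schemes with strictly henselian local rings are local isomorphisms
-/

set_option autoImplicit false
universe u

open CategoryTheory CategoryTheory.Limits AlgebraicGeometry Opposite
open scoped TensorProduct

namespace Groth.Agent.AIC6

variable {R : Type u} [CommRing R]

/-- Over a strictly henselian local ring of `R`, an étale algebra has a section near a given prime. -/
theorem exists_algHom_near {E : Type u} [CommRing E] [Algebra R E] [Algebra.Etale R E] (q : Ideal E)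
    [q.IsPrime]
    (h : EtCoh.IsStrictlyHenselianLocalRing (Localization.AtPrime (q.under R))) :
    ∃ e ∉ q, (∀ q' : Ideal E, q'.IsPrime → q'.under R = q.under R → e ∉ q' → q' = q) ∧
      ∃ g ∉ q.under R, Nonempty (Localization.Away e →ₐ[R] Localization.Away g) := by
  classical
  let p := q.under R
  haveI : q.LiesOver p := ⟨rfl⟩
  have hfin : (p.primesOver E).Finite := Algebra.QuasiFinite.finite_primesOver p
  have hsep : ∀ q' ∈ hfin.toFinset.erase q, ∃ e, e ∈ q' ∧ e ∉ q := by
    intro q' hq'
    rw [Finset.mem_erase, Set.Finite.mem_toFinset] at hq'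
    obtain ⟨hne, hq'p, hlo⟩ := hq'
    by_contra hle
    push Not at hle
    exact hne (Algebra.QuasiFinite.eq_of_le_of_under_eq q' q hle hlo.over.symm)
  choose! c hc1 hc2 using hsep
  let e := ∏ q' ∈ hfin.toFinset.erase q, c q'
  have he : e ∉ q := fun hm => by
    obtain ⟨q', hq', hm'⟩ := (Ideal.IsPrime.prod_mem_iff (p := q)).1 hm
    exact hc2 q' hq' hm'
  refine ⟨e, he, fun q' hq'p hu he' => ?_, ?_⟩
  · by_contra hne
    have hmem : q' ∈ hfin.toFinset.erase q := by
      rw [Finset.mem_erase, Set.Finite.mem_toFinset]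
      exact ⟨hne, hq'p, ⟨hu.symm⟩⟩
    exact he' (Ideal.mem_of_dvd _ (Finset.dvd_prod_of_mem c hmem) (hc1 q' hmem))
  obtain ⟨hh, hsc⟩ := h
  haveI := hh
  haveI : IsSepClosed p.ResidueField := hsc
  letI := Localization.AtPrime.algebraOfLiesOver p q
  have hbij := IsSepClosed.algebraMap_bijective p.ResidueField q.ResidueField
  let r : q.ResidueField →ₐ[R] p.ResidueField :=
    ((AlgEquiv.ofBijective (Algebra.ofId p.ResidueField q.ResidueField) hbij).symm.toAlgHom).restrictScalars R
  haveI : Algebra.Etale R (Localization.Away e) :=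
    haveI : Algebra.Etale E (Localization.Away e) := Algebra.Etale.of_isLocalizationAway e
    Algebra.Etale.comp R E (Localization.Away e)
  let s₁ : Localization.Away e →ₐ[R] q.ResidueField :=
    IsLocalization.Away.liftAlgHom e (f := IsScalarTower.toAlgHom R E q.ResidueField)
      (IsUnit.mk0 _ fun h0 => he (Ideal.algebraMap_residueField_eq_zero.1 h0))
  let Rp := Localization.AtPrime p
  let s₀ : Rp ⊗[R] Localization.Away e →ₐ[Rp] p.ResidueField :=
    Algebra.TensorProduct.lift (Algebra.ofId Rp _) (r.comp s₁)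
      fun _ _ => Commute.all _ _
  obtain ⟨τ, -⟩ := Hens.etaleLift_of_henselianRing (Hens.henselianRing_maximalIdeal Rp) _ s₀
  exact AbsClosure4.exists_algHom_away p ((τ.restrictScalars R).comp Algebra.TensorProduct.includeRight)

theorem zl_of_strictlyHenselian
    (hS : ∀ p : Ideal R, [p.IsPrime] → EtCoh.IsStrictlyHenselianLocalRing (Localization.AtPrime p)) :
    NormSep24.ZL (Spec (CommRingCat.of R)) := by
  intro U u
  let g : U.left ⟶ Spec (CommRingCat.of R) := U.hom
  haveI : AlgebraicGeometry.Etale g := U.prop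
  obtain ⟨E, j, hj, ⟨q, hq⟩, -⟩ := Scheme.exists_affine_mem_range_and_range_subset
    (x := u) (U := (⊤ : U.left.Opens)) (Set.mem_univ _)
  obtain ⟨a, ha⟩ := Spec.map_surjective (j ≫ g)
  letI : Algebra R E := a.hom.toAlgebra
  haveI : AlgebraicGeometry.Etale (Spec.map a) := by rw [ha]; infer_instance
  haveI : Algebra.Etale R E := HasRingHomProperty.Spec_iff.1 ‹AlgebraicGeometry.Etale (Spec.map a)›
  haveI : q.asIdeal.IsPrime := q.isPrime
  obtain ⟨e, he, huniq, c, hc, ⟨ψ⟩⟩ := exists_algHom_near (R := R) q.asIdeal (hS _)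
  let l : Spec (CommRingCat.of (Localization.Away c)) ⟶ Spec E :=
    Spec.map (CommRingCat.ofHom (ψ.toRingHom.comp (algebraMap E (Localization.Away e))))
  let s : Spec (CommRingCat.of (Localization.Away c)) ⟶ U.left := l ≫ j
  have hs : s ≫ g = Spec.map (CommRingCat.ofHom (algebraMap R (Localization.Away c))) := by
    change (l ≫ j) ≫ g = _
    rw [Category.assoc, ← ha, ← Spec.map_comp]
    congr 1
    ext r
    exact ψ.commutes r
  haveI : IsOpenImmersion (s ≫ g) := by
    rw [hs]; exact IsOpenImmersion.of_isLocalization c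
  haveI : AlgebraicGeometry.Etale s := Etale.of_comp s g
  haveI : Mono s := mono_of_mono s g
  haveI : IsOpenImmersion s := IsOpenImmersion.of_flat_of_mono s
  have hu : u ∈ Set.range s := by
    have hP : (⟨q.asIdeal.under R, inferInstance⟩ : PrimeSpectrum R) ∈ Set.range
        (PrimeSpectrum.comap (algebraMap R (Localization.Away c))) := by
      rw [PrimeSpectrum.localization_away_comap_range (Localization.Away c) c]; exact hc
    obtain ⟨P, hP⟩ := hP
    refine ⟨P, ?_⟩
    change j (l P) = u
    rw [← hq]
    congr 1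
    apply PrimeSpectrum.ext
    refine huniq _ (l P).isPrime ?_ ?_
    · have h1 := congrArg PrimeSpectrum.asIdeal hP
      refine Eq.trans ?_ h1
      ext r
      exact Ideal.ext_iff.1 rfl r |>.trans (by
        change ψ (algebraMap E (Localization.Away e) (algebraMap R E r)) ∈ P.asIdeal ↔ _
        rw [← IsScalarTower.algebraMap_apply, AlgHom.commutes]
        rfl)
    · intro hm
      exact P.isPrime.ne_top (Ideal.eq_top_of_isUnit_mem _ hm
        ((IsLocalization.Away.algebraMap_isUnit (S := Localization.Away e) e).map ψ.toRingHom))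
  refine ⟨s.opensRange, hu, ?_⟩
  have e' : s.opensRange.ι ≫ g = s.isoOpensRange.inv ≫ s ≫ g := by
    rw [← Category.assoc, Scheme.Hom.isoOpensRange_inv_comp]
  show IsOpenImmersion (s.opensRange.ι ≫ g)
  rw [e']; infer_instance

theorem zl_spec {R : Type u} [CommRing R] (hR : Curves.IsAIC R) :
    NormSep24.ZL (Spec (CommRingCat.of R)) := by
  refine zl_of_strictlyHenselian fun p _ => ?_
  have h := isAIC_of_isLocalization hR p.primeCompl (Localization.AtPrime p)
  exact ⟨henselianLocalRing h, isSepClosed_residueField h⟩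

end Groth.Agent.AIC6
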