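import Mathlib

/-!
# The Kummer–Artin–Schreier polynomial of `ζ`

For `ζ` with `1 + ζ + ⋯ + ζ^(p-1) = 0` the polynomial `ψ` has the roots `[m] = 1 + ⋯ + ζ^(m-1)`;
`(ζ - 1)^p ψ(a) = (1 + (ζ - 1) a)^p - 1`.
-/

set_option autoImplicit false
universe u v

open Polynomial

namespace Groth.Agent.AIC6

variable {R : Type u} [CommRing R]

/-- `1 + ζ + ⋯ + ζ^(m-1)`. -/
def qn (ζ : R) (m : ℕ) : R := ∑ i ∈ Finset.range m, ζ ^ i

/-- `1 + (ζ - 1) a`. -/
def ww (ζ a : R) : R := 1 + (ζ - 1) * a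

/-- The group law `x ⊕ y`. -/
def gadd (ζ a b : R) : R := a + ww ζ a * b

/-- `∏ (X - [m])`. -/
noncomputable def psiPoly (ζ : R) (p : ℕ) : R[X] := ∏ m ∈ Finset.range p, (X - C (qn ζ m))

/-- `∏ (a - [m])`. -/
def psi (ζ : R) (p : ℕ) (a : R) : R := ∏ m ∈ Finset.range p, (a - qn ζ m)

theorem eval_psiPoly (ζ : R) (p : ℕ) (a : R) : (psiPoly ζ p).eval a = psi ζ p a := by
  simp [psiPoly, psi, eval_prod]

theorem monic_psiPoly (ζ : R) (p : ℕ) : (psiPoly ζ p).Monic :=
  monic_prod_of_monic _ _ fun m _ => monic_X_sub_C _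

theorem natDegree_psiPoly [Nontrivial R] (ζ : R) (p : ℕ) : (psiPoly ζ p).natDegree = p := by
  rw [psiPoly, natDegree_prod_of_monic _ _ fun m _ => monic_X_sub_C _]
  simp

theorem ww_gadd (ζ a b : R) : ww ζ (gadd ζ a b) = ww ζ a * ww ζ b := by
  simp [ww, gadd]; ring

theorem psi_qn (ζ : R) {p m : ℕ} (hm : m < p) : psi ζ p (qn ζ m) = 0 :=
  Finset.prod_eq_zero (Finset.mem_range.2 hm) (sub_self _)

theorem qn_one (ζ : R) : qn ζ 1 = 1 := by simp [qn]

theorem ww_qn (ζ : R) (m : ℕ) : ww ζ (qn ζ m) = ζ ^ m := by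
  rw [ww, qn, mul_geom_sum]; ring

theorem qn_add (ζ : R) (m k : ℕ) : qn ζ (m + k) = qn ζ m + ζ ^ m * qn ζ k := by
  simp only [qn, Finset.sum_range_add, Finset.mul_sum, pow_add]

theorem gadd_qn (ζ : R) (m k : ℕ) : gadd ζ (qn ζ m) (qn ζ k) = qn ζ (m + k) := by
  rw [gadd, ww_qn, qn_add]

theorem qn_mul (ζ : R) (m k : ℕ) : qn ζ (m * k) = qn ζ m * qn (ζ ^ m) k := by
  induction k with
  | zero => simp [qn]
  | succ k ih =>
    rw [Nat.mul_succ, qn_add, ih, qn, qn, qn, Finset.sum_range_succ, ← pow_mul]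
    ring

variable {ζ : R} {p : ℕ}

theorem pow_eq_one (h : qn ζ p = 0) : ζ ^ p = 1 := by
  have := ww_qn ζ p
  simpa [ww, h] using this.symm

theorem qn_mod (h : qn ζ p = 0) (m : ℕ) : qn ζ (m % p) = qn ζ m := by
  conv_rhs => rw [← Nat.mod_add_div m p]
  rw [qn_add, qn_mul, h, zero_mul, mul_zero, add_zero]

theorem isUnit_qn (hp : p.Prime) (h : qn ζ p = 0) {m : ℕ} (hm0 : 0 < m) (hm : m < p) :
    IsUnit (qn ζ m) := by
  haveI := Fact.mk hp
  have hne : (m : ZMod p) ≠ 0 := fun h0 => by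
    rw [ZMod.natCast_eq_zero_iff] at h0
    exact absurd (Nat.le_of_dvd hm0 h0) (not_le.2 hm)
  obtain ⟨k, hk⟩ : ∃ k : ℕ, (m * k) % p = 1 := ⟨((m : ZMod p)⁻¹).val, by
    rw [← ZMod.val_natCast, Nat.cast_mul, ZMod.natCast_zmod_val, mul_inv_cancel₀ hne, ZMod.val_one]⟩
  refine IsUnit.of_mul_eq_one (qn (ζ ^ m) k) ?_
  rw [← qn_mul, ← qn_mod h, hk, qn_one]

theorem isUnit_qn_sub (hp : p.Prime) (h : qn ζ p = 0) {m k : ℕ} (hm : m < p) (hk : k < p)
    (hmk : m ≠ k) : IsUnit (qn ζ m - qn ζ k) := by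
  have key : ∀ a b : ℕ, a < b → b < p → IsUnit (qn ζ b - qn ζ a) := fun a b hab hb => by
    obtain ⟨c, rfl⟩ := Nat.exists_eq_add_of_le hab.le
    rw [qn_add, add_sub_cancel_left]
    have hζ : IsUnit ζ := IsUnit.of_pow_eq_one (pow_eq_one h) hp.ne_zero
    exact (hζ.pow a).mul (isUnit_qn hp h (by omega) (by omega))
  rcases lt_or_gt_of_ne hmk with h' | h'
  · rw [← neg_sub]; exact (key m k h' hk).neg
  · exact key k m h' hm

section Map

variable {S : Type v} [CommRing S] (F : R →+* S)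

theorem map_qn (m : ℕ) : F (qn ζ m) = qn (F ζ) m := by simp [qn]

theorem map_ww (a : R) : F (ww ζ a) = ww (F ζ) (F a) := by simp [ww]

theorem map_gadd (a b : R) : F (gadd ζ a b) = gadd (F ζ) (F a) (F b) := by simp [gadd, map_ww]

theorem map_psi (a : R) : F (psi ζ p a) = psi (F ζ) p (F a) := by simp [psi, map_qn]

end Map

theorem root_qn_eq_zero {S : Type v} [CommRing S] [Fact p.Prime] {z : S}
    (h : aeval z (cyclotomic p ℤ) = 0) : qn z p = 0 := by
  simpa [cyclotomic_prime, qn] using h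

/-- `(ζ - 1)^p ψ(a) = (1 + (ζ - 1) a)^p - 1`. -/
theorem ww_pow (hp : p.Prime) (h : qn ζ p = 0) (a : R) :
    ww ζ a ^ p = 1 + (ζ - 1) ^ p * psi ζ p a := by
  haveI := Fact.mk hp
  have hirr : Irreducible (cyclotomic p ℤ) := cyclotomic.irreducible hp.pos
  haveI : IsDomain (AdjoinRoot (cyclotomic p ℤ)) := AdjoinRoot.isDomain_of_prime hirr.prime
  let B := (AdjoinRoot (cyclotomic p ℤ))[X]
  let zB : B := C (AdjoinRoot.root (cyclotomic p ℤ))
  have hzB : qn zB p = 0 := by
    have : qn (AdjoinRoot.root (cyclotomic p ℤ)) p = 0 :=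
      root_qn_eq_zero (by
        rw [aeval_def]
        exact (congrArg (fun g => eval₂ g (AdjoinRoot.root (cyclotomic p ℤ)) (cyclotomic p ℤ))
          (RingHom.ext_int _ _)).trans (AdjoinRoot.eval₂_root _))
    rw [← map_qn (C : _ →+* B), this, map_zero]
  have hne : zB ≠ 1 := fun he => by
    have h1 : qn zB p = (p : B) := by simp [qn, he]
    rw [hzB] at h1
    have : CharZero (AdjoinRoot (cyclotomic p ℤ)) := charZero_of_injective_ringHom
      (AdjoinRoot.of.injective_of_degree_ne_zero (f := cyclotomic p ℤ)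
        (by rw [degree_cyclotomic]; exact_mod_cast (Nat.totient_pos.2 hp.pos).ne'))
    exact hp.ne_zero (Nat.cast_eq_zero.1 h1.symm)
  have hprim : IsPrimitiveRoot zB p := by
    have h1 := IsPrimitiveRoot.orderOf zB
    rwa [orderOf_eq_prime (pow_eq_one hzB) hne] at h1
  have huniv : ww zB (X : B) ^ p = 1 + (zB - 1) ^ p * psi zB p X := by
    have h2 := congrArg (Polynomial.eval (ww zB (X : B))) (X_pow_sub_one_eq_prod hp.pos hprim)
    rw [eval_sub, eval_pow, eval_X, eval_one, eval_prod] at h2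
    rw [← sub_eq_iff_eq_add', h2, psi]
    have h3 : ∀ m, ww zB (X : B) - zB ^ m = (zB - 1) * ((X : B) - qn zB m) := fun m => by
      rw [← ww_qn]; simp [ww]; ring
    have h4 : nthRootsFinset p (1 : B) = (Finset.range p).image fun m => zB ^ m := by
      ext x
      rw [mem_nthRootsFinset hp.pos, Finset.mem_image]
      constructor
      · intro hx
        haveI : NeZero p := ⟨hp.ne_zero⟩
        obtain ⟨i, hi, rfl⟩ := hprim.eq_pow_of_pow_eq_one hx
        exact ⟨i, Finset.mem_range.2 hi, rfl⟩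
      · rintro ⟨m, -, rfl⟩
        rw [← pow_mul, mul_comm, pow_mul, pow_eq_one hzB, one_pow]
    rw [h4, Finset.prod_image fun i hi j hj => hprim.pow_inj (Finset.mem_range.1 hi) (Finset.mem_range.1 hj)]
    simp only [eval_sub, eval_X, eval_C, h3, Finset.prod_mul_distrib, Finset.prod_const, Finset.card_range]
  have hroot : (cyclotomic p ℤ).eval₂ (Int.castRingHom R) ζ = 0 := by
    simpa [cyclotomic_prime, qn, eval₂_finset_sum] using h
  let F : B →+* R := eval₂RingHom (AdjoinRoot.lift (Int.castRingHom R) ζ hroot) a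
  have hz : F zB = ζ := (eval₂_C _ _).trans (AdjoinRoot.lift_root hroot)
  have hX : F X = a := eval₂_X _ _
  have := congrArg F huniv
  rwa [map_pow, map_ww, map_add, map_one, map_mul, map_pow, map_sub, map_one, map_psi, hz, hX] at this

theorem psi_gadd (hp : p.Prime) (h : qn ζ p = 0) (a b : R) :
    psi ζ p (gadd ζ a b) = psi ζ p a + psi ζ p b + (ζ - 1) ^ p * (psi ζ p a * psi ζ p b) := by
  haveI := Fact.mk hp
  have hirr : Irreducible (cyclotomic p ℤ) := cyclotomic.irreducible hp.pos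
  haveI : IsDomain (AdjoinRoot (cyclotomic p ℤ)) := AdjoinRoot.isDomain_of_prime hirr.prime
  let B := ((AdjoinRoot (cyclotomic p ℤ))[X])[X]
  let zB : B := C (C (AdjoinRoot.root (cyclotomic p ℤ)))
  let x : B := C X
  have hzB : qn zB p = 0 := by
    have : qn (AdjoinRoot.root (cyclotomic p ℤ)) p = 0 :=
      root_qn_eq_zero (by
        rw [aeval_def]
        exact (congrArg (fun g => eval₂ g (AdjoinRoot.root (cyclotomic p ℤ)) (cyclotomic p ℤ))
          (RingHom.ext_int _ _)).trans (AdjoinRoot.eval₂_root _))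
    rw [← map_qn (C : _ →+* B), ← map_qn (C : _ →+* (AdjoinRoot (cyclotomic p ℤ))[X]), this, map_zero, map_zero]
  have hne : (zB - 1) ^ p ≠ 0 := pow_ne_zero _ fun he => by
    have h1 : qn zB p = (p : B) := by simp [qn, sub_eq_zero.1 he]
    rw [hzB] at h1
    have : CharZero (AdjoinRoot (cyclotomic p ℤ)) := charZero_of_injective_ringHom
      (AdjoinRoot.of.injective_of_degree_ne_zero (f := cyclotomic p ℤ)
        (by rw [degree_cyclotomic]; exact_mod_cast (Nat.totient_pos.2 hp.pos).ne'))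
    exact hp.ne_zero (Nat.cast_eq_zero.1 h1.symm)
  have huniv : psi zB p (gadd zB x X) =
      psi zB p x + psi zB p X + (zB - 1) ^ p * (psi zB p x * psi zB p X) := by
    apply mul_left_cancel₀ hne
    have e := ww_pow hp hzB (gadd zB x (X : B))
    rw [ww_gadd, mul_pow, ww_pow hp hzB, ww_pow hp hzB] at e
    linear_combination -e
  have hroot : (cyclotomic p ℤ).eval₂ (Int.castRingHom R) ζ = 0 := by
    simpa [cyclotomic_prime, qn, eval₂_finset_sum] using h
  let F : B →+* R := eval₂RingHom (eval₂RingHom (AdjoinRoot.lift (Int.castRingHom R) ζ hroot) a) b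
  have hz : F zB = ζ := (eval₂_C _ _).trans ((eval₂_C _ _).trans (AdjoinRoot.lift_root hroot))
  have hX : F X = b := eval₂_X _ _
  have hx : F x = a := (eval₂_C _ _).trans (eval₂_X _ _)
  have := congrArg F huniv
  rwa [map_psi, map_gadd, map_add, map_add, map_mul, map_mul, map_pow, map_sub, map_one, map_psi, map_psi,
    hz, hX, hx] at this

theorem psi_zero_left (hp : p.Prime) (h : qn ζ p = 0) {x : R} (hx : psi ζ p x = 0) (b : R) :
    psi ζ p (gadd ζ x b) = psi ζ p b := by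
  rw [psi_gadd hp h, hx, zero_add, zero_mul, mul_zero, add_zero]

end Groth.Agent.AIC6
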