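import Groth.Agent.Lib.AIC6.Psi
import Groth.Agent.Lib.AIC6.Basic

/-!
# Triviality of `μ`-twisted Artin–Schreier torsors over two standard opens

For `R` absolutely integrally closed, `f, g` generating the unit ideal and `x` a root of `ψ` in `R_fg`,
we find roots of `ψ` in `R_f` and `R_g` differing by `x`.
-/

set_option autoImplicit false
universe u

open Polynomial

namespace Groth.Agent.AIC6

variable {R : Type u} [CommRing R] (f g : R)

/-- `R_f → R_fg`. -/
noncomputable def resL : Localization.Away f →+* Localization.Away (f * g) :=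
  IsLocalization.Away.lift f (g := algebraMap R (Localization.Away (f * g)))
    (isUnit_of_mul_isUnit_left (by
      rw [← map_mul]; exact IsLocalization.Away.algebraMap_isUnit (f * g)))

/-- `R_g → R_fg`. -/
noncomputable def resR : Localization.Away g →+* Localization.Away (f * g) :=
  IsLocalization.Away.lift g (g := algebraMap R (Localization.Away (f * g)))
    (isUnit_of_mul_isUnit_right (by
      rw [← map_mul]; exact IsLocalization.Away.algebraMap_isUnit (f * g)))

@[simp] theorem resL_algebraMap (r : R) : resL f g (algebraMap R _ r) = algebraMap R _ r :=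
  IsLocalization.Away.lift_eq _ _ _

@[simp] theorem resR_algebraMap (r : R) : resR f g (algebraMap R _ r) = algebraMap R _ r :=
  IsLocalization.Away.lift_eq _ _ _

/-- The ideal `I R_f`. -/
noncomputable abbrev loc (I : Ideal R) (h : R) : Ideal (Localization.Away h) :=
  I.map (algebraMap R (Localization.Away h))

theorem mem_loc_iff {I : Ideal R} {h : R} {z : Localization.Away h} :
    z ∈ loc I h ↔ ∃ n : ℕ, ∃ i ∈ I, z * algebraMap R _ (h ^ n) = algebraMap R _ i := by
  rw [loc, IsLocalization.mem_map_algebraMap_iff (Submonoid.powers h)]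
  constructor
  · rintro ⟨⟨⟨i, hi⟩, ⟨_, n, rfl⟩⟩, e⟩
    exact ⟨n, i, hi, e⟩
  · rintro ⟨n, i, hi, e⟩
    exact ⟨⟨⟨i, hi⟩, ⟨h ^ n, n, rfl⟩⟩, e⟩

theorem loc_top (h : R) : loc (⊤ : Ideal R) h = ⊤ := Ideal.map_top _

theorem exists_mul_pow (h : R) (z : Localization.Away h) :
    ∃ n : ℕ, ∃ i : R, z * algebraMap R _ (h ^ n) = algebraMap R _ i := by
  obtain ⟨n, i, -, e⟩ := mem_loc_iff.1 (show z ∈ loc (⊤ : Ideal R) h by rw [loc_top]; trivial)
  exact ⟨n, i, e⟩

theorem exists_extendL {I : Ideal R} {z : Localization.Away (f * g)} (hz : z ∈ loc I (f * g)) :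
    ∃ n : ℕ, ∃ a ∈ loc I f, resL f g a = z * algebraMap R _ (g ^ n) := by
  obtain ⟨n, i, hi, e⟩ := mem_loc_iff.1 hz
  obtain ⟨v, hv⟩ := (IsLocalization.Away.algebraMap_isUnit (S := Localization.Away f) f).exists_left_inv
  refine ⟨n, v ^ n * algebraMap R _ i, Ideal.mul_mem_left _ _ (Ideal.mem_map_of_mem _ hi), ?_⟩
  have h1 : resL f g v * algebraMap R _ f = 1 := by
    rw [← resL_algebraMap f g f, ← map_mul, hv, map_one]
  rw [map_mul, map_pow, resL_algebraMap, ← e]
  calc resL f g v ^ n * (z * algebraMap R _ ((f * g) ^ n))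
      = (resL f g v * algebraMap R _ f) ^ n * (z * algebraMap R _ (g ^ n)) := by
        simp only [map_pow, map_mul, mul_pow]; ring
    _ = _ := by rw [h1, one_pow, one_mul]

theorem exists_extendR {I : Ideal R} {z : Localization.Away (f * g)} (hz : z ∈ loc I (f * g)) :
    ∃ n : ℕ, ∃ b ∈ loc I g, resR f g b = z * algebraMap R _ (f ^ n) := by
  obtain ⟨n, i, hi, e⟩ := mem_loc_iff.1 hz
  obtain ⟨v, hv⟩ := (IsLocalization.Away.algebraMap_isUnit (S := Localization.Away g) g).exists_left_inv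
  refine ⟨n, v ^ n * algebraMap R _ i, Ideal.mul_mem_left _ _ (Ideal.mem_map_of_mem _ hi), ?_⟩
  have h1 : resR f g v * algebraMap R _ g = 1 := by
    rw [← resR_algebraMap f g g, ← map_mul, hv, map_one]
  rw [map_mul, map_pow, resR_algebraMap, ← e]
  calc resR f g v ^ n * (z * algebraMap R _ ((f * g) ^ n))
      = (resR f g v * algebraMap R _ g) ^ n * (z * algebraMap R _ (f ^ n)) := by
        simp only [map_pow, map_mul, mul_pow]; ring
    _ = _ := by rw [h1, one_pow, one_mul]

variable {f g} (hfg : IsCoprime f g)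

include hfg in
/-- Twisted decomposition. -/
theorem exists_decomp {I : Ideal R} {z u u' : Localization.Away (f * g)} (hu : u * u' = 1)
    (hz : z ∈ loc I (f * g)) :
    ∃ a ∈ loc I f, ∃ b ∈ loc I g, resL f g a = z + u * resR f g b := by
  obtain ⟨n, a, ha, hae⟩ := exists_extendL f g hz
  obtain ⟨m, b, hb, hbe⟩ := exists_extendR f g (Ideal.mul_mem_left _ u' hz)
  obtain ⟨α, β, hαβ⟩ := (hfg.pow (m := m) (n := n))
  refine ⟨algebraMap R _ β * a, Ideal.mul_mem_left _ _ ha,
    -(algebraMap R _ α * b), neg_mem (Ideal.mul_mem_left _ _ hb), ?_⟩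
  rw [map_mul, map_neg, map_mul, hae, hbe, resL_algebraMap, resR_algebraMap]
  have h1 : algebraMap R (Localization.Away (f * g)) α * algebraMap R _ (f ^ m) +
      algebraMap R _ β * algebraMap R _ (g ^ n) = 1 := by
    rw [← map_mul, ← map_mul, ← map_add, hαβ, map_one]
  linear_combination z * h1 + (algebraMap R _ α * algebraMap R _ (f ^ m) * z) * hu

include hfg in
theorem exists_glue {I : Ideal R} {a : Localization.Away f} {b : Localization.Away g}
    (ha : a ∈ loc I f) (hb : b ∈ loc I g) (h : resL f g a = resR f g b) :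
    ∃ c ∈ I, algebraMap R _ c = a ∧ algebraMap R _ c = b := by
  obtain ⟨n, A, hA, eA⟩ := mem_loc_iff.1 ha
  obtain ⟨m, B, hB, eB⟩ := mem_loc_iff.1 hb
  have h' : algebraMap R (Localization.Away (f * g)) (A * g ^ m) = algebraMap R _ (B * f ^ n) := by
    have e1 := congrArg (resL f g) eA
    have e2 := congrArg (resR f g) eB
    simp only [map_mul, resL_algebraMap, resR_algebraMap] at e1 e2
    rw [map_mul, map_mul, ← e1, ← e2, h]
    ring
  obtain ⟨⟨_, k, rfl⟩, hk⟩ := (IsLocalization.eq_iff_exists (Submonoid.powers (f * g)) _).1 h'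
  simp only at hk
  obtain ⟨α, β, hαβ⟩ := (hfg.pow (m := n + k) (n := m + k))
  refine ⟨α * (A * f ^ k) + β * (B * g ^ k),
    add_mem (I.mul_mem_left _ (I.mul_mem_right _ hA)) (I.mul_mem_left _ (I.mul_mem_right _ hB)), ?_, ?_⟩
  · have key : (α * (A * f ^ k) + β * (B * g ^ k)) * f ^ (n + k) = A * f ^ k := by
      linear_combination (A * f ^ k) * hαβ - β * hk
    apply ((IsLocalization.Away.algebraMap_isUnit (S := Localization.Away f) f).pow (n + k)).mul_left_injective
    dsimp only
    rw [← map_pow, ← map_mul, key, map_mul, ← eA, mul_assoc, ← map_mul, ← pow_add]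
  · have key : (α * (A * f ^ k) + β * (B * g ^ k)) * g ^ (m + k) = B * g ^ k := by
      linear_combination (B * g ^ k) * hαβ + α * hk
    apply ((IsLocalization.Away.algebraMap_isUnit (S := Localization.Away g) g).pow (m + k)).mul_left_injective
    dsimp only
    rw [← map_pow, ← map_mul, key, map_mul, ← eB, mul_assoc, ← map_mul, ← pow_add]

include hfg in
theorem mem_of_mem_loc {I : Ideal R} {c : R} (hf : algebraMap R _ c ∈ loc I f)
    (hg : algebraMap R _ c ∈ loc I g) : c ∈ I := by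
  obtain ⟨_, ⟨n, rfl⟩, hn⟩ := (IsLocalization.algebraMap_mem_map_algebraMap_iff
    (Submonoid.powers f) (Localization.Away f) I c).1 hf
  obtain ⟨_, ⟨m, rfl⟩, hm⟩ := (IsLocalization.algebraMap_mem_map_algebraMap_iff
    (Submonoid.powers g) (Localization.Away g) I c).1 hg
  obtain ⟨α, β, hαβ⟩ := (hfg.pow (m := n) (n := m))
  have : c = α * (f ^ n * c) + β * (g ^ m * c) := by linear_combination (-c) * hαβ
  rw [this]
  exact add_mem (I.mul_mem_left _ hn) (I.mul_mem_left _ hm)

/-- `w` is invertible modulo `I R_h`. -/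
def UnitMod (I : Ideal R) (h : R) (w : Localization.Away h) : Prop := ∃ v, v * w - 1 ∈ loc I h

variable (f g) in
/-- Pairs differing by `x`. -/
def Pair (ζ : R) (x : Localization.Away (f * g)) (a : Localization.Away f) (b : Localization.Away g) :
    Prop :=
  resL f g a = gadd (algebraMap R _ ζ) x (resR f g b)

variable (f g) in
/-- A pair with both translations invertible mod `I`. -/
def Good (ζ : R) (x : Localization.Away (f * g)) (I : Ideal R) : Prop :=
  ∃ a b, Pair f g ζ x a b ∧ UnitMod I f (ww (algebraMap R _ ζ) a) ∧ UnitMod I g (ww (algebraMap R _ ζ) b)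

section Main

variable (hR : Curves.IsAIC R) {ζ : R} {p : ℕ} (hp : p.Prime) (hζ : qn ζ p = 0)
  {x : Localization.Away (f * g)} (hx : psi (algebraMap R _ ζ) p x = 0)

include hζ in
theorem qn_algebraMap (h : R) : qn (algebraMap R (Localization.Away h) ζ) p = 0 := by
  rw [← map_qn, hζ, map_zero]

include hp hζ hx in
theorem wwx_pow : ww (algebraMap R _ ζ) x ^ p = 1 := by
  rw [ww_pow hp (qn_algebraMap hζ _), hx, mul_zero, add_zero]

include hfg hp hζ hx in
theorem exists_pair : ∃ a b, Pair f g ζ x a b := by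
  have hu : ww (algebraMap R _ ζ) x * ww (algebraMap R _ ζ) x ^ (p - 1) = 1 := by
    rw [← pow_succ', Nat.sub_add_cancel hp.pos, wwx_pow hp hζ hx]
  obtain ⟨a, -, b, -, h⟩ := exists_decomp hfg (I := ⊤) hu (z := x) (by rw [loc_top]; trivial)
  exact ⟨a, b, h⟩

include hp hζ hx in
theorem psi_pair {a : Localization.Away f} {b : Localization.Away g} (h : Pair f g ζ x a b) :
    resL f g (psi (algebraMap R _ ζ) p a) = resR f g (psi (algebraMap R _ ζ) p b) := by
  rw [map_psi, map_psi, resL_algebraMap, resR_algebraMap, h, psi_zero_left hp (qn_algebraMap hζ _) hx]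

include hfg hp hζ hx in
theorem exists_const {I : Ideal R} {a : Localization.Away f} {b : Localization.Away g}
    (h : Pair f g ζ x a b) (ha : psi (algebraMap R _ ζ) p a ∈ loc I f)
    (hb : psi (algebraMap R _ ζ) p b ∈ loc I g) :
    ∃ c ∈ I, algebraMap R _ c = psi (algebraMap R _ ζ) p a ∧ algebraMap R _ c = psi (algebraMap R _ ζ) p b :=
  exists_glue hfg ha hb (psi_pair hp hζ hx h)

include hp in
theorem natDegree_pos_aux [Nontrivial R] (c : R) : 0 < (psiPoly ζ p - C c).natDegree := by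
  rw [natDegree_sub_C, natDegree_psiPoly]; exact hp.pos

include hR hp in
theorem exists_psi_eq (c : R) : ∃ r : R, psi ζ p r = c := by
  cases subsingleton_or_nontrivial R
  · exact ⟨0, Subsingleton.elim _ _⟩
  obtain ⟨r, hr⟩ := hR (psiPoly ζ p - C c)
    ((monic_psiPoly ζ p).sub_of_left (by
      rw [degree_eq_natDegree (monic_psiPoly ζ p).ne_zero, natDegree_psiPoly]
      exact degree_C_le.trans_lt (by exact_mod_cast hp.pos)))
    (natDegree_pos_aux hp c)
  exact ⟨r, by rwa [eval_sub, eval_C, eval_psiPoly, sub_eq_zero] at hr⟩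

include hR hp in
theorem exists_pow_eq (c : R) : ∃ r : R, r ^ p = c := by
  cases subsingleton_or_nontrivial R
  · exact ⟨0, Subsingleton.elim _ _⟩
  obtain ⟨r, hr⟩ := hR (X ^ p - C c) (monic_X_pow_sub_C c hp.ne_zero)
    (by rw [natDegree_X_pow_sub_C]; exact hp.pos)
  exact ⟨r, by rwa [eval_sub, eval_pow, eval_X, eval_C, sub_eq_zero] at hr⟩

/-- The translation by `-ρ`, for `v` an approximate inverse of `1 + (ζ - 1) ρ`. -/
noncomputable abbrev shift (h ρ v : R) (a : Localization.Away h) : Localization.Away h :=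
  (a - algebraMap R _ ρ) * algebraMap R _ v

include hp hζ in
theorem psi_shift_mem {I : Ideal R} {h ρ v : R} {a : Localization.Away h}
    (hρ : algebraMap R _ (psi ζ p ρ) = psi (algebraMap R _ ζ) p a) (hv : v * ww ζ ρ - 1 ∈ I) :
    psi (algebraMap R _ ζ) p (shift h ρ v a) ∈ loc I h := by
  let π := Ideal.Quotient.mk (loc I h)
  have hζ' := qn_algebraMap hζ (p := p) h
  rw [← Ideal.Quotient.eq_zero_iff_mem, map_psi]
  have hq : qn (π (algebraMap R _ ζ)) p = 0 := by rw [← map_qn, hζ', map_zero]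
  have hv' : π (algebraMap R _ v) * ww (π (algebraMap R _ ζ)) (π (algebraMap R _ ρ)) = 1 := by
    rw [← map_ww, ← map_ww, ← map_mul, ← map_mul, ← map_one π, Ideal.Quotient.mk_eq_mk_iff_sub_mem,
      ← map_one (algebraMap R (Localization.Away h)), ← map_sub]
    exact Ideal.mem_map_of_mem _ hv
  have e : π a = gadd (π (algebraMap R _ ζ)) (π (algebraMap R _ ρ)) (π (shift h ρ v a)) := by
    simp only [gadd, shift, map_sub, map_mul]
    linear_combination (-(π a - π (algebraMap R _ ρ))) * hv'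
  have hρ' : psi (π (algebraMap R _ ζ)) p (π a) = psi (π (algebraMap R _ ζ)) p (π (algebraMap R _ ρ)) := by
    rw [← map_psi, ← hρ, map_psi, map_psi]
  have e2 := congrArg (psi (π (algebraMap R _ ζ)) p) e
  rw [psi_gadd hp hq, hρ'] at e2
  have e3 : psi (π (algebraMap R _ ζ)) p (π (shift h ρ v a)) *
      ww (π (algebraMap R _ ζ)) (π (algebraMap R _ ρ)) ^ p = 0 := by
    rw [ww_pow hp hq]
    linear_combination -e2
  have e4 : (π (algebraMap R _ v) ^ p) * ww (π (algebraMap R _ ζ)) (π (algebraMap R _ ρ)) ^ p = 1 := by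
    rw [← mul_pow, hv', one_pow]
  linear_combination (π (algebraMap R _ v) ^ p) * e3 - (psi (π (algebraMap R _ ζ)) p (π (shift h ρ v a))) * e4

include hfg hp hζ hx in
theorem exists_root_inv {I : Ideal R} {ρ : R} {a : Localization.Away f} {b : Localization.Away g}
    (hca : algebraMap R _ (psi ζ p ρ) = psi (algebraMap R _ ζ) p a)
    (hcb : algebraMap R _ (psi ζ p ρ) = psi (algebraMap R _ ζ) p b)
    (hua : UnitMod I f (ww (algebraMap R _ ζ) a)) (hub : UnitMod I g (ww (algebraMap R _ ζ) b)) :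
    ∃ v : R, v * ww ζ ρ - 1 ∈ I := by
  have key : ∀ {h : R} {y : Localization.Away h},
      algebraMap R _ (psi ζ p ρ) = psi (algebraMap R _ ζ) p y → UnitMod I h (ww (algebraMap R _ ζ) y) →
      ∃ n : ℕ, h ^ n ∈ Ideal.span {ww ζ ρ} ⊔ I := by
    intro h y hy ⟨v, hv⟩
    have h1 : v ^ p * ww (algebraMap R _ ζ) y ^ p - 1 ∈ loc I h := by
      rw [← mul_pow]
      have := sub_dvd_pow_sub_pow (v * ww (algebraMap R _ ζ) y) 1 p
      rw [one_pow] at this
      exact Ideal.mem_of_dvd _ this hv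
    rw [ww_pow hp (qn_algebraMap hζ h), ← hy, ← map_one (algebraMap R (Localization.Away h)),
      ← map_sub, ← map_pow, ← map_mul, ← map_add, ← ww_pow hp hζ] at h1
    have h2 : (1 : Localization.Away h) ∈ loc (Ideal.span {ww ζ ρ} ⊔ I) h := by
      rw [show (1 : Localization.Away h) = v ^ p * algebraMap R _ (ww ζ ρ ^ p) -
        (v ^ p * algebraMap R _ (ww ζ ρ ^ p) - algebraMap R _ 1) by rw [map_one]; ring]
      refine sub_mem (Ideal.mul_mem_left _ _ (Ideal.mem_map_of_mem _ ?_))
        (Ideal.map_mono le_sup_right h1)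
      exact Ideal.mem_sup_left (Ideal.pow_mem_of_mem _ (Ideal.mem_span_singleton_self _) p hp.pos)
    rw [← map_one (algebraMap R _), IsLocalization.algebraMap_mem_map_algebraMap_iff (Submonoid.powers h)] at h2
    obtain ⟨_, ⟨n, rfl⟩, hn⟩ := h2
    exact ⟨n, by simpa using hn⟩
  obtain ⟨n, hn⟩ := key hca hua
  obtain ⟨m, hm⟩ := key hcb hub
  obtain ⟨α, β, hαβ⟩ := (hfg.pow (m := n) (n := m))
  have h1 : (1 : R) ∈ Ideal.span {ww ζ ρ} ⊔ I := by
    rw [← hαβ]; exact add_mem (Ideal.mul_mem_left _ _ hn) (Ideal.mul_mem_left _ _ hm)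
  obtain ⟨y, hy, i, hi, hyi⟩ := Submodule.mem_sup.1 h1
  obtain ⟨v, rfl⟩ := Ideal.mem_span_singleton'.1 hy
  exact ⟨v, by rw [show v * ww ζ ρ - 1 = -i by linear_combination hyi]; exact neg_mem hi⟩

/-- `v * w - 1 ∈ I` for a multiple `w` of `w'` with `w ≡ 1`. -/
theorem unitMod_of_dvd {I : Ideal R} {h : R} {w w' : Localization.Away h} (hd : w ∣ w')
    (hw' : w' - 1 ∈ loc I h) : UnitMod I h w := by
  obtain ⟨v, rfl⟩ := hd
  exact ⟨v, by rwa [mul_comm]⟩

include hfg hR hp hζ hx in
theorem good_bot : Good f g ζ x ⊥ := by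
  by_contra hbot
  obtain ⟨a₀, b₀, hab₀⟩ := exists_pair hfg hp hζ hx
  have htop : Good f g ζ x ⊤ := ⟨a₀, b₀, hab₀, ⟨0, by rw [loc_top]; trivial⟩, ⟨0, by rw [loc_top]; trivial⟩⟩
  obtain ⟨I, -, hI, hmax⟩ := zorn_le_nonempty₀ {I : Ideal R | ¬ Good f g ζ x I} (fun c hc hchain I₀ hI₀ => by
    refine ⟨sSup c, fun ⟨a, b, hab, ⟨va, hva⟩, ⟨vb, hvb⟩⟩ => ?_, fun s hs => le_sSup hs⟩
    obtain ⟨n, i, hi, hie⟩ := mem_loc_iff.1 hva
    obtain ⟨m, j, hj, hje⟩ := mem_loc_iff.1 hvb
    obtain ⟨I₁, h₁, hi⟩ := (Submodule.mem_sSup_of_directed ⟨I₀, hI₀⟩ hchain.directedOn).1 hi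
    obtain ⟨I₂, h₂, hj⟩ := (Submodule.mem_sSup_of_directed ⟨I₀, hI₀⟩ hchain.directedOn).1 hj
    obtain ⟨I₃, h₃, h13, h23⟩ := hchain.directedOn I₁ h₁ I₂ h₂
    exact hc h₃ ⟨a, b, hab, ⟨va, mem_loc_iff.2 ⟨n, i, h13 hi, hie⟩⟩, ⟨vb, mem_loc_iff.2 ⟨m, j, h23 hj, hje⟩⟩⟩)
    ⊥ hbot
  set zf := algebraMap R (Localization.Away f) ζ with hzf
  set zg := algebraMap R (Localization.Away g) ζ with hzg
  set zfg := algebraMap R (Localization.Away (f * g)) ζ with hzfg
  set u := ww zfg x with hu_def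
  have hup : u ^ p = 1 := wwx_pow hp hζ hx
  have hu : u * u ^ (p - 1) = 1 := by rw [← pow_succ', Nat.sub_add_cancel hp.pos, hup]
  -- the products `(π l)^p`
  have hq : ∀ (lf : Localization.Away f) (lg : Localization.Away g), resL f g lf = u * resR f g lg →
      ∃ q : R, algebraMap R _ q = ((zf - 1) * lf) ^ p ∧ algebraMap R _ q = ((zg - 1) * lg) ^ p := by
    intro lf lg hl
    obtain ⟨q, -, h1, h2⟩ := exists_glue hfg (I := ⊤) (a := ((zf - 1) * lf) ^ p) (b := ((zg - 1) * lg) ^ p)
      (by rw [loc_top]; trivial) (by rw [loc_top]; trivial) (by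
        simp only [map_pow, map_mul, map_sub, map_one, hl, hzf, hzg, resL_algebraMap, resR_algebraMap]
        rw [← mul_left_comm, mul_pow, hup, one_mul])
    exact ⟨q, h1, h2⟩
  by_cases hex : ∃ (lf : Localization.Away f) (lg : Localization.Away g) (q : R),
      resL f g lf = u * resR f g lg ∧ algebraMap R _ q = ((zf - 1) * lf) ^ p ∧
        algebraMap R _ q = ((zg - 1) * lg) ^ p ∧ q ∉ I.radical
  swap
  · push Not at hex
    refine hI ⟨a₀, b₀, hab₀, ?_, ?_⟩
    · obtain ⟨n, lg, -, hlg⟩ := exists_extendR f g (I := ⊤) (z := u ^ (p - 1)) (by rw [loc_top]; trivial)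
      have hl : resL f g (algebraMap R _ (f ^ n)) = u * resR f g lg := by
        rw [hlg, resL_algebraMap, ← mul_assoc, hu, one_mul]
      obtain ⟨q, hq1, hq2⟩ := hq _ _ hl
      obtain ⟨N, hN⟩ := hex _ _ q hl hq1 hq2
      have hnil : IsNilpotent (Ideal.Quotient.mk (loc I f) (zf - 1)) := by
        refine ⟨p * N, ?_⟩
        have h := Ideal.mem_map_of_mem (algebraMap R (Localization.Away f)) hN
        rw [map_pow, hq1, ← pow_mul, mul_pow, map_pow] at h
        rw [← map_pow, Ideal.Quotient.eq_zero_iff_mem]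
        exact (Ideal.mul_unit_mem_iff_mem _ (((IsLocalization.Away.algebraMap_isUnit
          (S := Localization.Away f) f).pow n).pow (p * N))).1 h
      obtain ⟨v, hv⟩ := (((Commute.all _ _).isNilpotent_mul_right (y :=
        Ideal.Quotient.mk (loc I f) a₀) hnil).isUnit_one_add).exists_left_inv
      obtain ⟨v, rfl⟩ := Ideal.Quotient.mk_surjective v
      refine ⟨v, (Ideal.Quotient.mk_eq_mk_iff_sub_mem _ _).1 ?_⟩
      rw [map_mul, map_one, ← hv, ww, map_add, map_one, map_mul]
    · obtain ⟨n, lf, -, hlf⟩ := exists_extendL f g (I := ⊤) (z := u) (by rw [loc_top]; trivial)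
      have hl : resL f g lf = u * resR f g (algebraMap R _ (g ^ n)) := by
        rw [hlf, resR_algebraMap]
      obtain ⟨q, hq1, hq2⟩ := hq _ _ hl
      obtain ⟨N, hN⟩ := hex _ _ q hl hq1 hq2
      have hnil : IsNilpotent (Ideal.Quotient.mk (loc I g) (zg - 1)) := by
        refine ⟨p * N, ?_⟩
        have h := Ideal.mem_map_of_mem (algebraMap R (Localization.Away g)) hN
        rw [map_pow, hq2, ← pow_mul, mul_pow, map_pow] at h
        rw [← map_pow, Ideal.Quotient.eq_zero_iff_mem]
        exact (Ideal.mul_unit_mem_iff_mem _ (((IsLocalization.Away.algebraMap_isUnit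
          (S := Localization.Away g) g).pow n).pow (p * N))).1 h
      obtain ⟨v, hv⟩ := (((Commute.all _ _).isNilpotent_mul_right (y :=
        Ideal.Quotient.mk (loc I g) b₀) hnil).isUnit_one_add).exists_left_inv
      obtain ⟨v, rfl⟩ := Ideal.Quotient.mk_surjective v
      refine ⟨v, (Ideal.Quotient.mk_eq_mk_iff_sub_mem _ _).1 ?_⟩
      rw [map_mul, map_one, ← hv, ww, map_add, map_one, map_mul]
  obtain ⟨lf, lg, q, hl, hqf, hqg, hqI⟩ := hex
  set J := I ⊔ Ideal.span {q}
  obtain ⟨a, b, hab, hua, hub⟩ : Good f g ζ x J := by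
    by_contra hJ
    exact hqI (Ideal.le_radical (hmax hJ le_sup_left (Ideal.mem_sup_right (Ideal.mem_span_singleton_self q))))
  obtain ⟨c, -, hca, hcb⟩ := exists_const hfg hp hζ hx (I := ⊤) hab (by rw [loc_top]; trivial) (by rw [loc_top]; trivial)
  obtain ⟨ρ, rfl⟩ := exists_psi_eq hR hp (ζ := ζ) c
  obtain ⟨v, hv⟩ := exists_root_inv hfg hp hζ hx hca hcb hua hub
  have hδ : resL f g (shift f ρ v a) - gadd zfg x (resR f g (shift g ρ v b)) ∈ loc J (f * g) := by
    simp only [shift, map_mul, map_sub, resL_algebraMap, resR_algebraMap]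
    rw [show resL f g a = gadd zfg x (resR f g b) from hab]
    have : (gadd zfg x (resR f g b) - algebraMap R _ ρ) * algebraMap R _ v -
        gadd zfg x ((resR f g b - algebraMap R _ ρ) * algebraMap R _ v) =
        x * algebraMap R _ (v * ww ζ ρ - 1) := by
      simp only [gadd, ww, map_mul, map_sub, map_add, map_one, hzfg]
      ring
    rw [this]
    exact Ideal.mul_mem_left _ _ (Ideal.mem_map_of_mem _ hv)
  obtain ⟨df, hdf, dg, hdg, hd⟩ := exists_decomp hfg hu hδ
  set a' := shift f ρ v a - df with ha'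
  set b' := shift g ρ v b - dg with hb'
  have hab' : Pair f g ζ x a' b' := by
    change resL f g a' = gadd zfg x (resR f g b')
    rw [ha', hb', map_sub, map_sub, hd, gadd, gadd, hu_def]
    ring
  have hmem : ∀ {h : R} {y d : Localization.Away h}, d ∈ loc J h →
      psi (algebraMap R _ ζ) p y ∈ loc J h → psi (algebraMap R _ ζ) p (y - d) ∈ loc J h := by
    intro h y d hd hy
    rw [← Ideal.Quotient.eq_zero_iff_mem, map_psi] at hy ⊢
    rwa [map_sub, Ideal.Quotient.eq_zero_iff_mem.2 hd, sub_zero]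
  obtain ⟨c', hc', hca', hcb'⟩ := exists_const hfg hp hζ hx hab'
    (hmem hdf (psi_shift_mem hp hζ hca hv)) (hmem hdg (psi_shift_mem hp hζ hcb hv))
  clear_value a' b'
  obtain ⟨i, hi, kq, hkq, rfl⟩ := Submodule.mem_sup.1 hc'
  obtain ⟨k, rfl⟩ := Ideal.mem_span_singleton'.1 hkq
  obtain ⟨r, rfl⟩ := exists_pow_eq hR hp k
  refine hI ⟨a' - algebraMap R _ ((ζ - 1) * r) * lf, b' - algebraMap R _ ((ζ - 1) * r) * lg, ?_, ?_, ?_⟩
  · change resL f g _ = gadd zfg x _
    rw [map_sub, map_sub, map_mul (resL f g), map_mul (resR f g), resL_algebraMap, resR_algebraMap, hl,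
      show resL f g a' = gadd zfg x (resR f g b') from hab', gadd, gadd, hu_def]
    ring
  · refine unitMod_of_dvd (w' := ww zf a' ^ p - (algebraMap R _ ((ζ - 1) * r) * ((zf - 1) * lf)) ^ p) ?_ ?_
    · have := sub_dvd_pow_sub_pow (ww zf a') (algebraMap R _ ((ζ - 1) * r) * ((zf - 1) * lf)) p
      convert this using 1
      simp only [ww]; ring
    · rw [ww_pow hp (qn_algebraMap hζ f), mul_pow (algebraMap R _ ((ζ - 1) * r)) ((zf - 1) * lf), ← hqf, ← hca', ← map_one (algebraMap R _),
        ← map_sub, ← map_pow, ← map_mul, ← map_add, ← map_pow, ← map_mul, ← map_sub, ← map_sub]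
      refine Ideal.mem_map_of_mem _ ?_
      convert I.mul_mem_left ((ζ - 1) ^ p) hi using 1
      rw [mul_pow (ζ - 1) r]
      ring
  · refine unitMod_of_dvd (w' := ww zg b' ^ p - (algebraMap R _ ((ζ - 1) * r) * ((zg - 1) * lg)) ^ p) ?_ ?_
    · have := sub_dvd_pow_sub_pow (ww zg b') (algebraMap R _ ((ζ - 1) * r) * ((zg - 1) * lg)) p
      convert this using 1
      simp only [ww]; ring
    · rw [ww_pow hp (qn_algebraMap hζ g), mul_pow (algebraMap R _ ((ζ - 1) * r)) ((zg - 1) * lg), ← hqg, ← hcb', ← map_one (algebraMap R _),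
        ← map_sub, ← map_pow, ← map_mul, ← map_add, ← map_pow, ← map_mul, ← map_sub, ← map_sub]
      refine Ideal.mem_map_of_mem _ ?_
      convert I.mul_mem_left ((ζ - 1) ^ p) hi using 1
      rw [mul_pow (ζ - 1) r]
      ring

include hfg hR hp hζ hx in
/-- The torsor is trivial: roots of `ψ` on the two opens differing by `x`. -/
theorem exists_roots : ∃ a b, Pair f g ζ x a b ∧ psi (algebraMap R _ ζ) p a = 0 ∧
    psi (algebraMap R _ ζ) p b = 0 := by
  obtain ⟨a, b, hab, hua, hub⟩ := good_bot hfg hR hp hζ hx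
  obtain ⟨c, -, hca, hcb⟩ := exists_const hfg hp hζ hx (I := ⊤) hab (by rw [loc_top]; trivial) (by rw [loc_top]; trivial)
  obtain ⟨ρ, rfl⟩ := exists_psi_eq hR hp (ζ := ζ) c
  obtain ⟨v, hv⟩ := exists_root_inv hfg hp hζ hx hca hcb hua hub
  have hva := psi_shift_mem hp hζ hca hv
  have hvb := psi_shift_mem hp hζ hcb hv
  rw [loc, Ideal.map_bot, Ideal.mem_bot] at hva hvb
  refine ⟨_, _, ?_, hva, hvb⟩
  rw [Ideal.mem_bot] at hv
  change resL f g (shift f ρ v a) = gadd (algebraMap R _ ζ) x (resR f g (shift g ρ v b))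
  simp only [shift, map_mul, map_sub, resL_algebraMap, resR_algebraMap]
  rw [show resL f g a = gadd (algebraMap R _ ζ) x (resR f g b) from hab]
  have h0 : x * algebraMap R (Localization.Away (f * g)) (v * ww ζ ρ - 1) = 0 := by rw [hv, map_zero, mul_zero]
  simp only [gadd, ww, map_mul, map_sub, map_add, map_one] at h0 ⊢
  linear_combination h0

end Main

end Groth.Agent.AIC6
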